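import Groth.Agent.ValEtDescLib.Spread
import Groth.Agent.AffLim.Presentation
import Groth.Agent.SubmEtSpread.Effective

/-! An algebra as the filtered colimit of finitely presented algebras, and spreading of effectivity. -/

set_option autoImplicit false
set_option linter.style.haveILetI false
set_option backward.isDefEq.respectTransparency false

universe u
open CategoryTheory CategoryTheory.Limits AlgebraicGeometry Opposite

noncomputable section

namespace Groth.Agent.ValEtDescLib

open Groth.Agent.SubmEtSpread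
open _root_.Desc (SchDDFam)

variable (A V : Type u) [CommRing A] [CommRing V] [Algebra A V]

/-- Finitely many elements of `V` and finitely many relations among them. -/
structure FPIdx : Type u where
  /-- the generators -/
  s : Finset V
  /-- the relations -/
  F : Finset (MvPolynomial s A)
  rel : ∀ r ∈ F, MvPolynomial.aeval (fun v : s => (v : V)) r = 0

variable {A V}

/-- The inclusion of generators. -/
abbrev FPIdx.incl {s t : Finset V} (h : s ⊆ t) : MvPolynomial s A →ₐ[A] MvPolynomial t A :=
  MvPolynomial.rename fun v => ⟨v, h v.2⟩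

theorem FPIdx.incl_incl {s t w : Finset V} (h : s ⊆ t) (h' : t ⊆ w) (r : MvPolynomial s A) :
    FPIdx.incl h' (FPIdx.incl h r) = FPIdx.incl (h.trans h') r :=
  MvPolynomial.rename_rename _ _ r

theorem FPIdx.incl_self {s : Finset V} (r : MvPolynomial s A) : FPIdx.incl (Finset.Subset.refl s) r = r :=
  MvPolynomial.rename_id_apply r

instance : Preorder (FPIdx A V) where
  le i j := ∃ h : i.s ⊆ j.s, ∀ r ∈ i.F, FPIdx.incl h r ∈ Ideal.span (j.F : Set (MvPolynomial j.s A))
  le_refl i := ⟨Finset.Subset.refl _, fun r hr => by rw [FPIdx.incl_self]; exact Ideal.subset_span hr⟩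
  le_trans i j k := fun ⟨h, hF⟩ ⟨h', hF'⟩ => ⟨h.trans h', fun r hr => by
    rw [← FPIdx.incl_incl h h']
    have : Ideal.map (FPIdx.incl h').toRingHom (Ideal.span (j.F : Set (MvPolynomial j.s A))) ≤
        Ideal.span (k.F : Set (MvPolynomial k.s A)) := by
      rw [Ideal.map_span, Ideal.span_le]
      rintro _ ⟨r', hr', rfl⟩
      exact hF' r' hr'
    exact this (Ideal.mem_map_of_mem _ (hF r hr))⟩

theorem FPIdx.aeval_incl {s t : Finset V} (h : s ⊆ t) (r : MvPolynomial s A) :
    MvPolynomial.aeval (fun v : t => (v : V)) (FPIdx.incl h r) = MvPolynomial.aeval (fun v : s => (v : V)) r :=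
  MvPolynomial.aeval_rename _ _ r

instance : IsDirected (FPIdx A V) (· ≤ ·) := ⟨fun i j => by
  classical
  refine ⟨⟨i.s ∪ j.s, i.F.image (FPIdx.incl Finset.subset_union_left) ∪ j.F.image (FPIdx.incl Finset.subset_union_right), ?_⟩,
    ⟨Finset.subset_union_left, fun r hr => Ideal.subset_span ?_⟩,
    ⟨Finset.subset_union_right, fun r hr => Ideal.subset_span ?_⟩⟩
  · intro r hr
    rcases Finset.mem_union.1 hr with h | h <;> obtain ⟨r', hr', rfl⟩ := Finset.mem_image.1 h
    · exact (FPIdx.aeval_incl _ r').trans (i.rel r' hr')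
    · exact (FPIdx.aeval_incl _ r').trans (j.rel r' hr')
  · exact Finset.mem_union_left _ (Finset.mem_image_of_mem _ hr)
  · exact Finset.mem_union_right _ (Finset.mem_image_of_mem _ hr)⟩

instance : Nonempty (FPIdx A V) := ⟨⟨∅, ∅, fun r hr => absurd hr (Finset.notMem_empty r)⟩⟩

/-- The finitely presented algebra. -/
abbrev FPIdx.ring (i : FPIdx A V) : Type u := MvPolynomial i.s A ⧸ Ideal.span (i.F : Set (MvPolynomial i.s A))

/-- The map to `V`. -/
def FPIdx.toV (i : FPIdx A V) : i.ring →ₐ[A] V :=
  Ideal.Quotient.liftₐ _ (MvPolynomial.aeval fun v : i.s => (v : V)) fun r hr => by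
    have : Ideal.span (i.F : Set (MvPolynomial i.s A)) ≤
        RingHom.ker (MvPolynomial.aeval fun v : i.s => (v : V)).toRingHom := Ideal.span_le.2 i.rel
    exact this hr

/-- The transition map. -/
def FPIdx.map {i j : FPIdx A V} (h : i ≤ j) : i.ring →ₐ[A] j.ring :=
  Ideal.Quotient.liftₐ _ ((Ideal.Quotient.mkₐ A _).comp (FPIdx.incl h.fst)) fun r hr => by
    have : Ideal.span (i.F : Set (MvPolynomial i.s A)) ≤
        Ideal.comap (FPIdx.incl h.fst).toRingHom (Ideal.span (j.F : Set (MvPolynomial j.s A))) :=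
      Ideal.span_le.2 h.snd
    exact Ideal.Quotient.eq_zero_iff_mem.2 (this hr)

theorem FPIdx.map_mk {i j : FPIdx A V} (h : i ≤ j) (r : MvPolynomial i.s A) :
    FPIdx.map h (Ideal.Quotient.mk _ r) = Ideal.Quotient.mk _ (FPIdx.incl h.fst r) := rfl

theorem FPIdx.toV_mk (i : FPIdx A V) (r : MvPolynomial i.s A) :
    i.toV (Ideal.Quotient.mk _ r) = MvPolynomial.aeval (fun v : i.s => (v : V)) r := rfl

variable (A V)

/-- The rings. -/
def fpRings : FPIdx A V ⥤ CommRingCat.{u} where
  obj i := CommRingCat.of i.ring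
  map h := CommRingCat.ofHom (FPIdx.map h.le).toRingHom
  map_id i := CommRingCat.hom_ext (RingHom.ext fun x => by
    obtain ⟨r, rfl⟩ := Ideal.Quotient.mk_surjective x
    exact congrArg (Ideal.Quotient.mk _) (FPIdx.incl_self r))
  map_comp h h' := CommRingCat.hom_ext (RingHom.ext fun x => by
    obtain ⟨r, rfl⟩ := Ideal.Quotient.mk_surjective x
    exact congrArg (Ideal.Quotient.mk _) (FPIdx.incl_incl h.le.fst h'.le.fst r).symm)

/-- The cocone. -/
def fpCocone : Cocone (fpRings A V) where
  pt := CommRingCat.of V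
  ι :=
    { app := fun i => CommRingCat.ofHom i.toV.toRingHom
      naturality := fun i j h => CommRingCat.hom_ext (RingHom.ext fun x => by
        obtain ⟨r, rfl⟩ := Ideal.Quotient.mk_surjective x
        exact FPIdx.aeval_incl h.le.fst r) }

theorem nonempty_isColimit_fpCocone : Nonempty (IsColimit (fpCocone A V)) := by
  classical
  refine AffLim.nonempty_isColimit_of_elementwise _ (fun x => ?_) (fun i x y e => ?_)
  · exact ⟨⟨{x}, ∅, fun r hr => absurd hr (Finset.notMem_empty r)⟩,
      Ideal.Quotient.mk _ (MvPolynomial.X ⟨x, Finset.mem_singleton_self x⟩),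
      (MvPolynomial.aeval_X (R := A) (fun v : ({x} : Finset V) => (v : V)) _)⟩
  · obtain ⟨p, rfl⟩ := Ideal.Quotient.mk_surjective x
    obtain ⟨q, rfl⟩ := Ideal.Quotient.mk_surjective y
    have e' : MvPolynomial.aeval (fun v : i.s => (v : V)) p = MvPolynomial.aeval (fun v : i.s => (v : V)) q := e
    refine ⟨⟨i.s, insert (p - q) i.F, fun r hr => ?_⟩,
      ⟨Finset.Subset.refl _, fun r hr => by
        rw [FPIdx.incl_self]; exact Ideal.subset_span (Finset.mem_insert_of_mem hr)⟩, ?_⟩
    · rcases Finset.mem_insert.1 hr with rfl | h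
      · rw [map_sub, e', sub_self]
      · exact i.rel r h
    · refine (Ideal.Quotient.mk_eq_mk_iff_sub_mem _ _).2 ?_
      have h1 : FPIdx.incl (Finset.Subset.refl i.s) p - FPIdx.incl (Finset.Subset.refl i.s) q = p - q :=
        congrArg₂ (· - ·) (FPIdx.incl_self p) (FPIdx.incl_self q)
      exact (congrArg (· ∈ Ideal.span _) h1).mpr (Ideal.subset_span (Finset.mem_coe.2 (Finset.mem_insert_self _ _)))

/-- The presentation of `Spec V` over `Spec A`. -/
def fpSys : AffSys (Spec.map (CommRingCat.ofHom (algebraMap A V))) (FPIdx A V)ᵒᵖ where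
  sys := (fpRings A V).op ⋙ Scheme.Spec
  π := ((Scheme.Spec).mapCone (fpCocone A V).op).π
  isLimit := isLimitOfPreserves Scheme.Spec (nonempty_isColimit_fpCocone A V).some.op
  isAffine k := inferInstanceAs (IsAffine (Spec _))
  toBase :=
    { app := fun k => Spec.map (CommRingCat.ofHom (algebraMap A k.unop.ring))
      naturality := fun j k h => by
        refine Eq.trans ?_ (Category.comp_id _).symm
        show Spec.map _ ≫ Spec.map _ = Spec.map _
        rw [← Spec.map_comp]
        exact congrArg Spec.map (CommRingCat.hom_ext (AlgHom.comp_algebraMap (FPIdx.map h.unop.le))) }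
  π_toBase k := by
    show Spec.map _ ≫ Spec.map _ = Spec.map _
    rw [← Spec.map_comp]
    exact congrArg Spec.map (CommRingCat.hom_ext (AlgHom.comp_algebraMap k.unop.toV))

theorem lfp_toBase (k : (FPIdx A V)ᵒᵖ) : LocallyOfFinitePresentation ((fpSys A V).toBase.app k) := by
  refine (HasRingHomProperty.Spec_iff (P := @LocallyOfFinitePresentation)).2 ?_
  show (algebraMap A k.unop.ring).FinitePresentation
  rw [RingHom.finitePresentation_algebraMap]
  exact Algebra.FinitePresentation.quotient ⟨k.unop.F, rfl⟩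

variable {A V}

/-- Effectivity over an algebra spreads to a finitely presented algebra mapping to it. -/
theorem exists_fp_effAt {X : Scheme.{u}} {g : X ⟶ Spec (CommRingCat.of A)} [QuasiCompact g] [QuasiSeparated g]
    [Surjective g] (D : SchDDFam (fun _ : PUnit.{1} => g)) [Etale (D.obj PUnit.unit).hom]
    [QuasiCompact (D.obj PUnit.unit).hom] [QuasiSeparated (D.obj PUnit.unit).hom]
    (H : EffAt D (Spec.map (CommRingCat.ofHom (algebraMap A V)))) :
    ∃ i : FPIdx A V, EffAt D (Spec.map (CommRingCat.ofHom (algebraMap A i.ring))) := by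
  let D₀ := (_root_.Desc.SchDDFam.toSchDD g).obj D
  haveI : Etale D₀.obj.hom := ‹Etale (D.obj PUnit.unit).hom›
  haveI : QuasiCompact D₀.obj.hom := ‹QuasiCompact (D.obj PUnit.unit).hom›
  haveI : QuasiSeparated D₀.obj.hom := ‹QuasiSeparated (D.obj PUnit.unit).hom›
  obtain ⟨U, str, π, hU, hπ⟩ := (effAt_iff D _).1 H
  haveI := hU
  haveI := lfp_toBase A V
  obtain ⟨k, W, t, π', ht, hπ'⟩ := exists_stage_quot (fpSys A V) hπ
  exact ⟨k.unop, (effAt_iff D _).2 ⟨W, t, π', ht, hπ'⟩⟩

end Groth.Agent.ValEtDescLib
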