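import Groth.Agent.ValEtDescLib.ValSystem
import Groth.Agent.ValEtDescLib.Modification
import Groth.Agent.QFinEtDesc.Main
import Groth.Agent.QFinEtDesc.Proper
import Groth.Agent.QFinEtDesc.OverBase
import Groth.Agent.QFinEtDesc.GlueStable

/-! A proper surjective map to an affine scheme on which a local property holds, from its validity at valuation rings. -/

set_option autoImplicit false
set_option linter.style.haveILetI false
set_option backward.isDefEq.respectTransparency false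
set_option backward.isDefEq.respectTransparency.types false

universe u
open CategoryTheory CategoryTheory.Limits AlgebraicGeometry

noncomputable section

namespace Groth.Agent.ValEtDescLib

open Groth.Agent.SchDesc Groth.Agent.SubmEtSpread Groth.Agent.QFinEtDesc
open _root_.Desc (SchDD SchDDFam)

theorem exists_hom_chart {A₀ A : Type u} [CommRing A₀] [CommRing A] (f : A₀ →+* A) (c : Chart A₀) {W : Scheme.{u}}
    [IsAffine W] (k : W ⟶ Spec (CommRingCat.of c.Ring)) (s : W ⟶ Spec (CommRingCat.of A))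
    (w : k ≫ c.toBase = s ≫ Spec.map (CommRingCat.ofHom f)) :
    ∃ k' : W ⟶ Spec (CommRingCat.of (c.map f).Ring), k' ≫ (c.map f).toBase = s := by
  classical
  obtain ⟨κ, hκ⟩ := Spec.map_surjective (W.isoSpec.inv ≫ k)
  obtain ⟨σ, hσ⟩ := Spec.map_surjective (W.isoSpec.inv ≫ s)
  have hcomp : κ.hom.comp (algebraMap A₀ c.Ring) = σ.hom.comp f := by
    have : Spec.map (CommRingCat.ofHom (algebraMap A₀ c.Ring) ≫ κ) = Spec.map (CommRingCat.ofHom f ≫ σ) := by
      rw [Spec.map_comp, Spec.map_comp, hκ, hσ, Category.assoc, Category.assoc, w]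
    exact congrArg CommRingCat.Hom.hom (Spec.map_injective this)
  let t : Fin c.n → Γ(W, ⊤) := fun i => κ.hom (Ideal.Quotient.mk _ (MvPolynomial.X i))
  let χ : (c.map f).Ring →+* Γ(W, ⊤) := Ideal.Quotient.lift _ (MvPolynomial.eval₂Hom σ.hom t) fun x hx => by
    refine (Ideal.span_le (I := RingHom.ker (MvPolynomial.eval₂Hom σ.hom t))).2 ?_ hx
    intro r hr
    obtain ⟨r₀, hr₀, rfl⟩ := Finset.mem_image.1 (Finset.mem_coe.1 hr)
    show MvPolynomial.eval₂ σ.hom t (MvPolynomial.map f r₀) = 0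
    rw [MvPolynomial.eval₂_map, ← hcomp]
    have h1 : MvPolynomial.eval₂ (κ.hom.comp (algebraMap A₀ c.Ring)) t r₀ = κ.hom (Ideal.Quotient.mk _ r₀) :=
      congrArg (fun φ : MvPolynomial (Fin c.n) A₀ →+* Γ(W, ⊤) => φ r₀)
        (show MvPolynomial.eval₂Hom (κ.hom.comp (algebraMap A₀ c.Ring)) t = κ.hom.comp (Ideal.Quotient.mk _) from
          MvPolynomial.ringHom_ext (fun a => by rw [MvPolynomial.eval₂Hom_C]; rfl)
            fun i => by rw [MvPolynomial.eval₂Hom_X']; rfl)
    rw [h1, Ideal.Quotient.eq_zero_iff_mem.2 (Ideal.subset_span hr₀), map_zero]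
  refine ⟨W.isoSpec.hom ≫ Spec.map (CommRingCat.ofHom χ), ?_⟩
  have h2 : CommRingCat.ofHom (algebraMap A (c.map f).Ring) ≫ CommRingCat.ofHom χ = σ :=
    CommRingCat.hom_ext (RingHom.ext fun a => MvPolynomial.eval₂Hom_C σ.hom t a)
  rw [Category.assoc, ← Spec.map_comp, h2, hσ, Iso.hom_inv_id_assoc]

theorem Chart.has_comp {A : Type u} [CommRing A] {K' K : Type u} [Field K'] [Field K] (c : Chart A) (ψ : A →+* K')
    (j : K' →+* K) (O : ValuationSubring K) (h : c.Has ψ (O.comap j)) : c.Has (j.comp ψ) O := by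
  obtain ⟨h1, h2, h3⟩ := h
  refine ⟨(map_ne_zero j).2 h1, fun i => ?_, fun r hr => ?_⟩
  · show j (ψ (c.num i)) / j (ψ c.den) ∈ O
    rw [← map_div₀]
    exact h2 i
  · have := congrArg j (h3 r hr)
    rw [MvPolynomial.eval₂_comp_left, map_zero] at this
    convert this using 2
    funext i
    simp [map_div₀]

variable {A : Type u} [CommRing A] (E : ∀ {P : Scheme.{u}}, (P ⟶ Spec (CommRingCat.of A)) → Prop)
  (hcomp : ∀ {P P' : Scheme.{u}} {f : P ⟶ Spec (CommRingCat.of A)} {f' : P' ⟶ Spec (CommRingCat.of A)}, E f →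
    ∀ h : P' ⟶ P, h ≫ f = f' → E f')
  (hval : ∀ (V : Type u) [CommRing V] [IsDomain V] [ValuationRing V] [Algebra A V],
    ∃ i : FPIdx A V, E (Spec.map (CommRingCat.ofHom (algebraMap A i.ring))))

include hcomp hval in
theorem exists_good_chart (K : Type u) [Field K] (ψ : A →+* K) (O : ValuationSubring K) (hO : ∀ x, ψ x ∈ O) :
    ∃ c : Chart A, E c.toBase ∧ c.Has ψ O := by
  classical
  let q := RingHom.ker ψ
  haveI : q.IsPrime := RingHom.ker_isPrime ψ
  let K' := FractionRing (A ⧸ q)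
  let j : K' →+* K := IsFractionRing.lift (g := RingHom.kerLift ψ) (RingHom.kerLift_injective ψ)
  let ψ' : A →+* K' := (algebraMap (A ⧸ q) K').comp (Ideal.Quotient.mk q)
  have hj : j.comp ψ' = ψ := RingHom.ext fun x =>
    (IsFractionRing.lift_algebraMap (K := K') (RingHom.kerLift_injective ψ) (Ideal.Quotient.mk q x)).trans
      (RingHom.kerLift_mk ψ x)
  let O' := O.comap j
  have hO' : ∀ x, ψ' x ∈ O' := fun x => by
    show j (ψ' x) ∈ O
    rw [← RingHom.comp_apply, hj]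
    exact hO x
  letI : Algebra A O' := (ψ'.codRestrict O'.toSubring hO').toAlgebra
  obtain ⟨i, hi⟩ := hval O'
  obtain ⟨b, hb⟩ := IsLocalization.exist_integer_multiples_of_finset (nonZeroDivisors (A ⧸ q)) (i.s.image fun v : O' => (v : K'))
  obtain ⟨s, hs⟩ := Ideal.Quotient.mk_surjective (b : A ⧸ q)
  have hnum : ∀ v : i.s, ∃ a : A, ψ' a = ψ' s * ((v : O') : K') := fun v => by
    obtain ⟨a', ha'⟩ := hb _ (Finset.mem_image_of_mem _ v.2)
    obtain ⟨a, rfl⟩ := Ideal.Quotient.mk_surjective a'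
    refine ⟨a, ha'.trans ?_⟩
    rw [← hs, Algebra.smul_def]
    rfl
  choose a ha using hnum
  have hden : ψ' s ≠ 0 := fun h => nonZeroDivisors.ne_zero b.2
    (IsFractionRing.injective (A ⧸ q) K' ((congrArg _ hs.symm).trans (h.trans (map_zero _).symm)))
  let e := i.s.equivFin
  let c : Chart A :=
    { n := i.s.card
      den := s
      num := fun k => a (e.symm k)
      rels := i.F.image (MvPolynomial.rename e) }
  have hval : ∀ v : i.s, ψ' (a v) / ψ' s = ((v : O') : K') := fun v => by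
    rw [ha, mul_div_cancel_left₀ _ hden]
  refine ⟨c, ?_, hj ▸ Chart.has_comp c ψ' j O ⟨hden, fun k => ?_, fun r hr => ?_⟩⟩
  · let φ : i.ring →ₐ[A] c.Ring :=
      Ideal.Quotient.liftₐ _ ((Ideal.Quotient.mkₐ A _).comp (MvPolynomial.rename e)) fun r hr => by
        have : Ideal.span (i.F : Set (MvPolynomial i.s A)) ≤
            Ideal.comap (MvPolynomial.rename e).toRingHom (Ideal.span (c.rels : Set (MvPolynomial (Fin c.n) A))) :=
          Ideal.span_le.2 fun x hx => Ideal.subset_span (Finset.mem_coe.2 (Finset.mem_image_of_mem _ hx))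
        exact Ideal.Quotient.eq_zero_iff_mem.2 (this hr)
    refine hcomp hi (Spec.map (CommRingCat.ofHom φ.toRingHom)) ?_
    rw [← Spec.map_comp]
    exact congrArg Spec.map (CommRingCat.hom_ext (AlgHom.comp_algebraMap φ))
  · show ψ' (a (e.symm k)) / ψ' s ∈ O'
    rw [hval]
    exact ((e.symm k : i.s) : O').2
  · obtain ⟨r₀, hr₀, rfl⟩ := Finset.mem_image.1 hr
    rw [MvPolynomial.eval₂_rename]
    have h1 : ((O'.subtype).comp (MvPolynomial.aeval (fun v : i.s => (v : O'))).toRingHom) r₀ = 0 := by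
      simp [i.rel r₀ hr₀]
    refine Eq.trans ?_ h1
    show _ = O'.subtype (MvPolynomial.aeval (fun v : i.s => (v : O')) r₀)
    rw [MvPolynomial.aeval_def, MvPolynomial.eval₂_comp_left]
    congr 1
    funext v
    show ψ' (a (e.symm (e v))) / ψ' s = _
    rw [Equiv.symm_apply_apply, hval]
    rfl

include hcomp hval in
theorem exists_proper_local :
    ∃ (Y : Scheme.{u}) (y : Y ⟶ Spec (CommRingCat.of A)), IsProper y ∧ Surjective y ∧
      LocallyOfFinitePresentation y ∧ ∀ z : Y, ∃ O : Y.Opens, z ∈ O ∧ IsAffine (O : Scheme.{u}) ∧ E (O.ι ≫ y) := by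
  obtain ⟨A₀, cs, hfg, hgood, hcov⟩ := exists_finite_charts (fun c : Chart A => E c.toBase)
    (fun K _ ψ O hO => exists_good_chart E hcomp hval K ψ O hO)
  haveI : Algebra.FiniteType ℤ A₀ := ⟨(Subalgebra.fg_top A₀).2 hfg⟩
  haveI : IsNoetherianRing A₀ := Algebra.FiniteType.isNoetherianRing ℤ A₀
  obtain ⟨P, y₀, h1, h2, hsub⟩ := exists_modification cs hcov
  haveI := h1
  haveI := h2
  haveI : IsLocallyNoetherian (Spec (CommRingCat.of A₀)) := inferInstance
  haveI := QFinEtDesc.lfp_of_noetherian y₀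
  let s : Spec (CommRingCat.of A) ⟶ Spec (CommRingCat.of A₀) := Spec.map (CommRingCat.ofHom A₀.val.toRingHom)
  refine ⟨pullback y₀ s, pullback.snd y₀ s, inferInstance, inferInstance, inferInstance, fun z => ?_⟩
  obtain ⟨W₁, j₁, hj₁, ⟨w₁, hw₁⟩, c, hc, k₁, hk₁⟩ := hsub (pullback.fst y₀ s z)
  haveI := hj₁
  obtain ⟨_, ⟨O₁, hO₁, rfl⟩, hwO, -⟩ := W₁.isBasis_affineOpens.exists_subset_of_mem_open
    (Set.mem_univ w₁) isOpen_univ
  haveI : IsAffineHom s := isAffineHom_of_isAffine s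
  haveI : IsAffineHom (pullback.fst y₀ s) := MorphismProperty.pullback_fst _ _ inferInstance
  let R : Scheme.{u} := (pullback.fst y₀ s ⁻¹ᵁ (j₁ ''ᵁ O₁) : (pullback y₀ s).Opens)
  haveI : IsAffine R := (IsAffineOpen.preimage (hO₁.image_of_isOpenImmersion j₁) (pullback.fst y₀ s))
  let O := pullback.fst y₀ s ⁻¹ᵁ (j₁ ''ᵁ O₁)
  let m : (O : Scheme.{u}) ⟶ W₁ := IsOpenImmersion.lift j₁ (O.ι ≫ pullback.fst y₀ s) (by
    rintro _ ⟨x, rfl⟩
    obtain ⟨x', -, hx'⟩ := x.2
    exact ⟨x', hx'⟩)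
  have hm : m ≫ j₁ = O.ι ≫ pullback.fst y₀ s := IsOpenImmersion.lift_fac _ _ _
  obtain ⟨k', hk'⟩ := exists_hom_chart A₀.val.toRingHom c (m ≫ k₁) (O.ι ≫ pullback.snd y₀ s) (by
    rw [Category.assoc, hk₁, reassoc_of% hm, pullback.condition, Category.assoc])
  exact ⟨O, ⟨w₁, hwO, hw₁⟩, ‹IsAffine R›, hcomp (hgood c hc) k' hk'⟩

end Groth.Agent.ValEtDescLib
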