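import Groth.Agent.ValEtDescLib.OpenClosed
import Groth.Agent.RGFlatLib.Domain

/-! Universally open refinements at valuation rings, and effectivity for separated data along subtrusive morphisms
of finite presentation. -/

set_option autoImplicit false
set_option linter.style.haveILetI false
set_option backward.isDefEq.respectTransparency false
set_option backward.defeqAttrib.useBackward true

universe u
open CategoryTheory CategoryTheory.Limits AlgebraicGeometry

noncomputable section

namespace Groth.Agent.ValEtDescLib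

/-- A base change has a universally open quasi-compact quasi-separated refinement. -/
def OpenRefinable {X S : Scheme.{u}} (g : X ⟶ S) {P : Scheme.{u}} (f : P ⟶ S) : Prop :=
  ∃ (T : Scheme.{u}) (t : T ⟶ P) (m : T ⟶ X),
    m ≫ g = t ≫ f ∧ UniversallyOpen t ∧ Surjective t ∧ QuasiCompact t ∧ QuasiSeparated t

theorem OpenRefinable.of_comp {X S P P' : Scheme.{u}} {g : X ⟶ S} {f : P ⟶ S} {f' : P' ⟶ S}
    (H : OpenRefinable g f) (h : P' ⟶ P) (e : h ≫ f = f') : OpenRefinable g f' := by
  obtain ⟨T, t, m, hm, h1, h2, h3, h4⟩ := H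
  refine ⟨pullback t h, pullback.snd t h, pullback.fst t h ≫ m, ?_, MorphismProperty.pullback_snd _ _ h1,
    MorphismProperty.pullback_snd _ _ h2, MorphismProperty.pullback_snd _ _ h3, MorphismProperty.pullback_snd _ _ h4⟩
  rw [Category.assoc, hm, pullback.condition_assoc, e]

/-- A base change has a flat surjective refinement of finite presentation. -/
def FlatRefinable {X S : Scheme.{u}} (g : X ⟶ S) {P : Scheme.{u}} (f : P ⟶ S) : Prop :=
  ∃ (T : Scheme.{u}) (t : T ⟶ P) (m : T ⟶ X), m ≫ g = t ≫ f ∧ Flat t ∧ LocallyOfFinitePresentation t ∧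
    Surjective t ∧ QuasiCompact t ∧ QuasiSeparated t

theorem FlatRefinable.of_comp {X S P P' : Scheme.{u}} {g : X ⟶ S} {f : P ⟶ S} {f' : P' ⟶ S}
    (H : FlatRefinable g f) (h : P' ⟶ P) (e : h ≫ f = f') : FlatRefinable g f' := by
  obtain ⟨T, t, m, hm, h1, h2, h3, h4, h5⟩ := H
  refine ⟨pullback t h, pullback.snd t h, pullback.fst t h ≫ m, ?_, inferInstance, inferInstance,
    inferInstance, inferInstance, inferInstance⟩
  rw [Category.assoc, hm, pullback.condition_assoc, e]

theorem FlatRefinable.openRefinable {X S P : Scheme.{u}} {g : X ⟶ S} {f : P ⟶ S}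
    (H : FlatRefinable g f) : OpenRefinable g f := by
  obtain ⟨T, t, m, hm, h1, h2, h3, h4, h5⟩ := H
  exact ⟨T, t, m, hm, inferInstance, h3, h4, h5⟩

theorem exists_stage_flatRefinable {X S P T : Scheme.{u}} {g : X ⟶ S} [LocallyOfFinitePresentation g]
    {f : P ⟶ S} {J : Type u} [SmallCategory J] [IsCofiltered J] (σ : AffSys f J) [IsAffine P]
    (t : T ⟶ P) [Flat t] [LocallyOfFinitePresentation t] [Surjective t] [CompactSpace T] [QuasiSeparatedSpace T]
    (m : T ⟶ X) (hm : m ≫ g = t ≫ f) : ∃ k, FlatRefinable g (σ.toBase.app k) := by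
  have hc := σ.isLimit
  haveI : ∀ k, CompactSpace (σ.sys.obj k) := fun k => inferInstance
  haveI : ∀ k, QuasiSeparatedSpace (σ.sys.obj k) := fun k => inferInstance
  haveI : ∀ (i j : J) (h : i ⟶ j), IsAffineHom (σ.sys.map h) := fun i j h => inferInstance
  haveI : QuasiCompact t := quasiCompact_of_compactSpace t
  haveI : QuasiSeparated t := QuasiSeparated.of_quasiSeparatedSpace t
  obtain ⟨k₀, T₀, f₀, gT, hl, hqc, hqs, hpb⟩ := Groth.Agent.S0591.result σ.sys σ.cone hc T t
  haveI : CompactSpace T₀ := QuasiCompact.compactSpace_of_compactSpace f₀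
  have hY : IsPullback (σ.cone.π.app k₀) (𝟙 _) (𝟙 (σ.sys.obj k₀)) (σ.cone.π.app k₀) :=
    IsPullback.of_vert_isIso ⟨by simp⟩
  obtain ⟨kf, hkf⟩ := FlatStage.exists_flat σ.sys σ.cone k₀ f₀ (𝟙 _) hY hpb hc
  let a : T₀ ⟶ σ.sys.obj k₀ := f₀ ≫ 𝟙 _
  let B := AffLim.baseChange σ.sys k₀ a
  let cB := FlatStage.vCone σ.sys σ.cone k₀ a (hpb.paste_vert hY)
  obtain ⟨hcB⟩ := FlatStage.nonempty_isLimit_vCone σ.sys σ.cone k₀ a (hpb.paste_vert hY) hc
  haveI : QuasiCompact a := inferInstance
  haveI : QuasiSeparated a := inferInstance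
  haveI hsq : ∀ j : Over k₀, QuasiCompact (pullback.snd a (σ.sys.map j.hom)) := fun j =>
    MorphismProperty.pullback_snd _ _ inferInstance
  haveI hsq' : ∀ j : Over k₀, QuasiSeparated (pullback.snd a (σ.sys.map j.hom)) := fun j =>
    MorphismProperty.pullback_snd _ _ inferInstance
  haveI : ∀ j : Over k₀, CompactSpace (B.obj j) := fun j =>
    QuasiCompact.compactSpace_of_compactSpace (pullback.snd a (σ.sys.map j.hom))
  haveI : ∀ j : Over k₀, QuasiSeparatedSpace (B.obj j) := fun j =>
    quasiSeparatedSpace_of_quasiSeparated (pullback.snd a (σ.sys.map j.hom))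
  have htlmap : ∀ {i j : Over k₀} (h : i ⟶ j), IsPullback (B.map h) (pullback.snd a (σ.sys.map i.hom))
      (pullback.snd a (σ.sys.map j.hom)) (σ.sys.map h.left) := fun {i j} h => by
    refine IsPullback.of_right (h₁₂ := pullback.fst a (σ.sys.map j.hom)) (v₁₃ := a) (h₂₂ := σ.sys.map j.hom)
      ?_ (pullback.lift_snd _ _ _) (IsPullback.of_hasPullback a (σ.sys.map j.hom))
    simp only [B, AffLim.baseChange, pullback.map, pullback.lift_fst, Category.comp_id, ← Functor.map_comp, Over.w]
    exact IsPullback.of_hasPullback a (σ.sys.map i.hom)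
  haveI hBaff : ∀ {i j : Over k₀} (h : i ⟶ j), IsAffineHom (B.map h) := fun {i j} h =>
    MorphismProperty.of_isPullback (P := @IsAffineHom) (htlmap h).flip
      (inferInstance : IsAffineHom (σ.sys.map h.left))
  let tB : B ⟶ (Functor.const _).obj S :=
    { app := fun j => pullback.snd a (σ.sys.map j.hom) ≫ σ.toBase.app j.left
      naturality := fun i j h => by simp [B, AffLim.baseChange, σ.map_toBase] }
  obtain ⟨km, mk, hmk, hmk'⟩ := Scheme.exists_π_app_comp_eq_of_locallyOfFinitePresentation B tB g cB hcB m (by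
    ext j
    show cB.π.app j ≫ pullback.snd a (σ.sys.map j.hom) ≫ σ.toBase.app j.left = m ≫ g
    rw [hm]
    show FlatStage.vMap σ.sys σ.cone k₀ a (hpb.paste_vert hY) j ≫ _ = _
    rw [FlatStage.vMap_snd_assoc, Category.assoc]
    simp [σ.π_toBase])
  let l := IsCofiltered.min kf km
  let u := IsCofiltered.minToLeft kf km
  let v := IsCofiltered.minToRight kf km
  let tl := pullback.snd a (σ.sys.map l.hom)
  haveI : LocallyOfFinitePresentation tl := MorphismProperty.pullback_snd _ _ inferInstance
  haveI : Flat (pullback.snd a (σ.sys.map kf.hom)) := by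
    haveI := hkf
    haveI : IsIso (pullback.snd (𝟙 (σ.sys.obj k₀)) (σ.sys.map kf.hom)) := inferInstance
    rw [show pullback.snd a (σ.sys.map kf.hom) =
      (AffLim.baseChangeMap σ.sys k₀ f₀ (𝟙 _)).app kf ≫ pullback.snd (𝟙 _) (σ.sys.map kf.hom) by
        simp [a, AffLim.baseChangeMap]]
    infer_instance
  haveI : Flat tl := MorphismProperty.of_isPullback (P := @Flat) (htlmap u) inferInstance
  haveI : UniversallyOpen tl := inferInstance
  let V : (σ.sys.obj l.left).Opens := ⟨Set.range tl, tl.isOpenMap.isOpen_range⟩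
  obtain ⟨n, w, hw⟩ := exists_map_eq_top σ.sys σ.cone hc V (TopologicalSpace.Opens.ext (Set.eq_univ_of_forall fun y => by
    obtain ⟨x, rfl⟩ := t.surjective y
    let χ : T ⟶ B.obj l := FlatStage.vMap σ.sys σ.cone k₀ a (hpb.paste_vert hY) l
    refine ⟨χ x, ?_⟩
    show tl (χ x) = σ.π.app l.left (t x)
    have hχ : χ ≫ tl = t ≫ σ.π.app l.left :=
      (FlatStage.vMap_snd σ.sys σ.cone k₀ a (hpb.paste_vert hY) l).trans (by simp)
    exact (Scheme.Hom.comp_apply χ tl x).symm.trans ((congrArg (fun k : T ⟶ _ => k x) hχ).trans (Scheme.Hom.comp_apply t _ x))))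
  let n' : Over k₀ := Over.mk (w ≫ l.hom)
  let w' : n' ⟶ l := Over.homMk w rfl
  let tn := pullback.snd a (σ.sys.map n'.hom)
  haveI : Flat tn := MorphismProperty.of_isPullback (P := @Flat) (htlmap w') inferInstance
  haveI : LocallyOfFinitePresentation tn := MorphismProperty.pullback_snd _ _ inferInstance
  refine ⟨n, B.obj n', tn, B.map (w' ≫ v) ≫ mk, ?_, inferInstance, inferInstance, ⟨fun y => ?_⟩, hsq n', hsq' n'⟩
  · rw [Category.assoc, hmk']
    exact (tB.naturality (w' ≫ v)).trans (Category.comp_id _)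
  · have hy : σ.sys.map w y ∈ V := hw.ge (Set.mem_univ y)
    obtain ⟨x, hx⟩ := hy
    obtain ⟨z, -, hz⟩ := Scheme.Pullback.exists_preimage_pullback (f := tl) (g := σ.sys.map w) x y hx
    refine ⟨(htlmap w').isoPullback.inv z, ?_⟩
    rw [← Scheme.Hom.comp_apply]
    exact (congrArg (fun k : pullback tl (σ.sys.map w) ⟶ _ => k z) (htlmap w').isoPullback_inv_snd).trans hz

/-- Over a valuation ring, a subtrusive morphism of finite presentation has a flat refinement at a finitely
presented algebra. -/
theorem exists_fp_flatRefinable {A V B : CommRingCat.{u}} [IsDomain V] [ValuationRing V] [Algebra A V]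
    (φ : A ⟶ B) (hfp : φ.hom.FinitePresentation) (hg : Subtr.UnivSSubtrusive (Spec.map φ)) :
    ∃ i : FPIdx A V, FlatRefinable (Spec.map φ) (Spec.map (CommRingCat.ofHom (algebraMap A i.ring))) := by
  classical
  haveI : LocallyOfFinitePresentation (Spec.map φ) :=
    (HasRingHomProperty.Spec_iff (P := @LocallyOfFinitePresentation)).2 hfp
  let f : Spec (CommRingCat.of V) ⟶ Spec A := Spec.map (CommRingCat.ofHom (algebraMap A V))
  obtain ⟨a, a', ha, e, e'⟩ := (SubtrVal.univSSubtrusive_iff_valuationRing _).1 hg V f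
    ((PrimeSpectrum.le_iff_specializes ⊥ (IsLocalRing.closedPoint V)).1 bot_le)
  obtain ⟨W, _, _, _, w, hw⟩ := SubtrVal.exists_lift_of_pair (pullback.snd _ f) ha e' e
  obtain ⟨jW, hjW⟩ := Spec.map_surjective (w ≫ pullback.snd (Spec.map φ) f)
  obtain ⟨ψ, hψ⟩ := Spec.map_surjective (w ≫ pullback.fst (Spec.map φ) f)
  have hcomp : φ ≫ ψ = CommRingCat.ofHom (algebraMap A V) ≫ jW := by
    refine Spec.map_injective ?_
    rw [Spec.map_comp, Spec.map_comp, hψ, hjW, Category.assoc, Category.assoc, pullback.condition]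
  haveI : Surjective (Spec.map (CommRingCat.ofHom jW.hom)) := by
    rw [show CommRingCat.ofHom jW.hom = jW from rfl, hjW]; exact hw
  have hinj : Function.Injective jW.hom := injective_of_surjective_specMap jW.hom
  letI : Algebra V W := jW.hom.toAlgebra
  letI : Algebra A B := φ.hom.toAlgebra
  haveI : Algebra.FiniteType A B := RingHom.finiteType_algebraMap.1 (RingHom.FiniteType.of_finitePresentation hfp)
  obtain ⟨s, hs⟩ := Algebra.FiniteType.out (R := A) (A := B)
  let C : Subalgebra V W := Algebra.adjoin V (s.image ψ.hom : Set W)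
  have hψC : ∀ b, ψ.hom b ∈ C := by
    intro b
    have hb : b ∈ Algebra.adjoin A (s : Set B) := by rw [hs]; trivial
    induction hb using Algebra.adjoin_induction with
    | mem x hx => exact Algebra.subset_adjoin (Finset.mem_coe.2 (Finset.mem_image_of_mem _ hx))
    | algebraMap r =>
      have h : ψ.hom (φ.hom r) = jW.hom (algebraMap A V r) := congrArg (fun k => k.hom r) hcomp
      show ψ.hom (φ.hom r) ∈ C
      rw [h]
      exact C.algebraMap_mem _
    | add x y _ _ hx hy => rw [map_add]; exact add_mem hx hy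
    | mul x y _ _ hx hy => rw [map_mul]; exact mul_mem hx hy
  haveI : Algebra.FiniteType V C := ⟨(Subalgebra.fg_top C).2 (Subalgebra.fg_adjoin_finset _)⟩
  haveI : Module.Flat V C := by
    refine (Module.Flat.flat_iff_torsion_eq_bot_of_isBezout (R := V)).2 ((Submodule.eq_bot_iff _).2 ?_)
    rintro x ⟨⟨r, hr⟩, hx⟩
    have h1 : jW.hom r * x.1 = 0 := congrArg Subtype.val hx
    rcases mul_eq_zero.1 h1 with h | h
    · exact absurd ((map_eq_zero_iff _ hinj).1 h) (nonZeroDivisors.ne_zero hr)
    · exact Subtype.ext h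
  haveI : Algebra.FinitePresentation V C := by
    obtain ⟨n, π, hπ⟩ := Algebra.FiniteType.iff_quotient_mvPolynomial''.1 ‹Algebra.FiniteType V C›
    letI : Algebra (MvPolynomial (Fin n) V) C := π.toRingHom.toAlgebra
    haveI : IsScalarTower V (MvPolynomial (Fin n) V) C := .of_algebraMap_eq fun r => (π.commutes r).symm
    haveI : Module.Finite (MvPolynomial (Fin n) V) C :=
      Module.Finite.of_surjective (Algebra.linearMap (MvPolynomial (Fin n) V) C) hπ
    haveI := RGFlatLib.finitePresentation_of_flat_isDomain (R := V) (S := MvPolynomial (Fin n) V) (M := C)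
    exact Algebra.FinitePresentation.of_surjective hπ
      (Module.FinitePresentation.fg_ker (Algebra.linearMap (MvPolynomial (Fin n) V) C) hπ)
  let t : Spec (CommRingCat.of C) ⟶ Spec (CommRingCat.of V) := Spec.map (CommRingCat.ofHom (algebraMap V C))
  haveI : Flat t := (HasRingHomProperty.Spec_iff (P := @Flat)).2 (RingHom.flat_algebraMap_iff.2 inferInstance)
  haveI : LocallyOfFinitePresentation t := (HasRingHomProperty.Spec_iff (P := @LocallyOfFinitePresentation)).2
    (RingHom.finitePresentation_algebraMap.2 inferInstance)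
  haveI : Surjective t := ⟨fun y => by
    obtain ⟨z, hz⟩ := (Spec.map (CommRingCat.ofHom jW.hom)).surjective y
    exact ⟨Spec.map (CommRingCat.ofHom C.val.toRingHom) z, hz⟩⟩
  let m : Spec (CommRingCat.of C) ⟶ Spec B := Spec.map (CommRingCat.ofHom (ψ.hom.codRestrict C hψC))
  have hm : m ≫ Spec.map φ = t ≫ f := by
    rw [← Spec.map_comp, ← Spec.map_comp]
    refine congrArg Spec.map (CommRingCat.hom_ext (RingHom.ext fun r => Subtype.ext ?_))
    exact congrArg (fun k => k.hom r) hcomp
  obtain ⟨k, hk⟩ := exists_stage_flatRefinable (fpSys A V) t m hm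
  exact ⟨k.unop, hk⟩

/-- Over a valuation ring, a subtrusive morphism of finite presentation has an open refinement at a finitely
presented algebra. -/
theorem exists_fp_openRefinable {A V B : CommRingCat.{u}} [IsDomain V] [ValuationRing V] [Algebra A V]
    (φ : A ⟶ B) (hfp : φ.hom.FinitePresentation) (hg : Subtr.UnivSSubtrusive (Spec.map φ)) :
    ∃ i : FPIdx A V, OpenRefinable (Spec.map φ) (Spec.map (CommRingCat.ofHom (algebraMap A i.ring))) :=
  (exists_fp_flatRefinable φ hfp hg).imp fun _ h => h.openRefinable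

end Groth.Agent.ValEtDescLib
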