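import Groth.Agent.ValEtDescLib.AffineBase
import Groth.Agent.SubmEtSpread.FpqcBase

/-! Effectivity of descent of étale morphisms along quasi-compact universally subtrusive morphisms. -/

set_option autoImplicit false
set_option linter.style.haveILetI false
set_option backward.isDefEq.respectTransparency false
set_option backward.isDefEq.respectTransparency.types false

universe u
open CategoryTheory CategoryTheory.Limits AlgebraicGeometry

noncomputable section

namespace Groth.Agent.ValEtDescLib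

open Groth.Agent.SchDesc Groth.Agent.SubmEtSpread Groth.Agent.QFinEtDesc
open _root_.Desc (SchDD SchDDFam)

section Descend

variable {X S Y U₁ : Scheme.{u}} {p : X ⟶ S} {D : SchDD p} {y : Y ⟶ S} {str₁ : U₁ ⟶ Y}
  {π₁ : pullback (dHom D) y ⟶ U₁}

/-- A quotient over a base change descends along it when descent along the base change is effective. -/
theorem quot_top_of_baseChange (hp : SGA1.UnivSubmersive p) [Etale D.obj.hom] (hy : SGA1.UnivSubmersive y)
    (hQ : IsQuot D y str₁ π₁) [Etale str₁]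
    (H : ∀ E : SchDD y, E.obj = Over.mk str₁ →
      ∃ U : Over S, Etale U.hom ∧ Nonempty ((_root_.Desc.toDD y).obj U ≅ E)) :
    ∃ Q : Quot D ⊤, Etale Q.str := by
  have hqf : y ≫ 𝟙 S = y := Category.comp_id y
  let E := descDD hp hQ hqf
  obtain ⟨U, het, ⟨e⟩⟩ := H E rfl
  haveI := het
  let el : pullback y U.hom ⟶ U₁ := e.hom.hom.left
  let el' : U₁ ⟶ pullback y U.hom := e.inv.hom.left
  haveI : IsIso el' := ⟨el, congrArg (fun f => f.hom.left) e.inv_hom_id, congrArg (fun f => f.hom.left) e.hom_inv_id⟩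
  have hel : el' ≫ pullback.fst y U.hom = str₁ := Over.w e.inv.hom
  let gU : U₁ ⟶ U.left := el' ≫ pullback.snd y U.hom
  have hU : IsPullback gU str₁ U.hom y :=
    (IsPullback.of_hasPullback y U.hom).flip.of_iso (asIso el').symm (Iso.refl _) (Iso.refl _) (Iso.refl _)
      (by simp [gU]) (by simp [← hel]) (by simp) (by simp)
  let r : pullback (dHom D) y ⟶ pullback (dHom D) (𝟙 S) := bcMap (dHom D) hqf
  have hdesc : ∀ {T : Scheme.{u}} (t₀ t₁ : T ⟶ pullback (dHom D) y), t₀ ≫ r = t₁ ≫ r →
      t₀ ≫ π₁ ≫ gU = t₁ ≫ π₁ ≫ gU := by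
    intro T t₀ t₁ ht
    let x₀ := t₀ ≫ pullback.snd _ _
    let x₁ := t₁ ≫ pullback.snd _ _
    have hx : x₀ ≫ y = x₁ ≫ y := by
      have := congrArg (· ≫ pullback.snd (dHom D) (𝟙 S)) ht
      simpa [x₀, x₁, r] using this
    let v : _root_.Desc.Lifts E.obj x₀ :=
      ⟨t₀ ≫ π₁, show (t₀ ≫ π₁) ≫ str₁ = x₀ by rw [Category.assoc, hQ.fac]⟩
    have hφ : (E.φ x₀ x₁ hx v).1 = t₁ ≫ π₁ := by
      show trPt hp hQ x₀ x₁ (eq_base hqf hx) (t₀ ≫ π₁) (by rw [Category.assoc, hQ.fac]) = _
      let s : T ⟶ pullback (dHom D) (x₀ ≫ y) := pullback.lift (t₀ ≫ pullback.fst _ _) (𝟙 T) (by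
        simp only [x₀, Category.assoc, Category.id_comp, pullback.condition])
      have h1 : s ≫ bcMap (dHom D) (rfl : x₀ ≫ y = x₀ ≫ y) = t₀ := by
        apply pullback.hom_ext <;> simp [s, x₀]; exact Category.id_comp _
      have h2 : s ≫ bcMap (dHom D) (eq_base hqf hx).symm = t₁ := by
        apply pullback.hom_ext
        · have := congrArg (· ≫ pullback.fst (dHom D) (𝟙 S)) ht
          simpa [s, r] using this
        · simp [s, x₁]; exact Category.id_comp _
      have h3 : pullback.lift (t₀ ≫ π₁) (𝟙 T) (by rw [Category.assoc, hQ.fac, Category.id_comp]) =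
          s ≫ qπ hQ x₀ rfl := by
        refine pullback.hom_ext ?_ ?_
        · rw [pullback.lift_fst, Category.assoc, (qπ_spec hQ x₀ rfl).2, reassoc_of% h1]
        · rw [pullback.lift_snd, Category.assoc, (qπ_spec hQ x₀ rfl).1.fac, pullback.lift_snd]
      rw [trPt, h3, Category.assoc, (tr_spec hp hQ _ _ _ _).2, reassoc_of% h2]
    have key := e.inv.comm x₀ x₁ hx v (e.inv.push v) rfl
    rw [hφ] at key
    have key' := congrArg (· ≫ pullback.snd y U.hom) key
    simp only [Category.assoc] at key'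
    refine Eq.trans ?_ key'
    refine Eq.trans ?_ (pullback.lift_snd _ _ _).symm
    simp [gU, v, el', _root_.Desc.SchDD.Hom.push]
  -- the quotient of the datum pulled back to `X ×_S Y`
  let h : pullback p y ⟶ X := pullback.fst p y
  have hT : SGA1.UnivSubmersive (h ≫ p) := by
    rw [pullback.condition]
    exact univSubmersive_comp _ _ (MorphismProperty.pullback_snd (P := MorphismProperty.universally _) _ _ hp) hy
  let D'' := pull D h (p' := h ≫ p) (s := 𝟙 S) (Category.comp_id _).symm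
  let m : D''.obj.left ⟶ pullback (dHom D) y := toBC D y
  have hm1 : m ≫ pullback.fst _ _ = pullFst D h (p' := h ≫ p) (s := 𝟙 S) (Category.comp_id _).symm :=
    pullback.lift_fst _ _ _
  have hm2 : m ≫ pullback.snd _ _ = D''.obj.hom ≫ pullback.snd p y := pullback.lift_snd _ _ _
  have h2 : IsPullback π₁ (ofBC D y ≫ pullback.snd _ _) str₁ (pullback.snd p y) := by
    refine IsPullback.of_bot ?_ ?_ (IsPullback.of_hasPullback p y).flip
    · rw [Category.assoc, ofBC_snd_fst]
      exact hQ.isPullback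
    · rw [hQ.fac, Category.assoc]
      exact (ofBC_snd_snd D y).symm
  have h3 : IsPullback (π₁ ≫ gU) (ofBC D y ≫ pullback.snd _ _) U.hom (h ≫ p) := by
    rw [show h ≫ p = pullback.snd p y ≫ y from pullback.condition]
    exact h2.paste_horiz hU
  haveI : IsIso m := ⟨ofBC D y, toBC_ofBC D y, ofBC_toBC D y⟩
  let Q : Quot D'' ⊤ :=
    { U := U.left
      str := U.hom
      π := (⊤ : D''.obj.left.Opens).ι ≫ m ≫ π₁ ≫ gU
      isPullback := by
        refine h3.flip.of_iso ((asIso m).symm ≪≫ (Scheme.topIso D''.obj.left).symm) (Iso.refl _) (Iso.refl _)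
          (Iso.refl _) ?_ ?_ (by simp) (by simp)
        · simp only [Iso.refl_hom, Category.comp_id, Iso.trans_hom, Iso.symm_hom, asIso_inv, Category.assoc]
          rw [IsIso.eq_inv_comp, Iso.eq_inv_comp]
          simp only [m, ← Category.assoc]
          rw [Category.assoc _ (toBC D y) (ofBC D y)]
          erw [toBC_ofBC]
          simp [← Scheme.topIso_hom]
          rfl
        · simp only [Iso.refl_hom, Category.comp_id, Iso.trans_hom, Iso.symm_hom, asIso_inv, Category.assoc]
          rw [IsIso.eq_inv_comp, Iso.eq_inv_comp]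
          simp [← Scheme.topIso_hom]
      stable := stable_top
      inv := fun {T} t t' x hx he => by
        let a := t ≫ (⊤ : D''.obj.left.Opens).ι
        let a' := t' ≫ (⊤ : D''.obj.left.Opens).ι
        have hc : (a ≫ m ≫ pullback.fst _ _) ≫ D.obj.hom ≫ p = (x ≫ h) ≫ p := by
          rw [hm1]
          simp only [Category.assoc]
          rw [reassoc_of% (isPullback_pull D h (p' := h ≫ p) (s := 𝟙 S) (Category.comp_id _).symm).w]
          simpa [a] using hx
        have he1 : move D (a ≫ m ≫ pullback.fst _ _) (x ≫ h) hc = a' ≫ m ≫ pullback.fst _ _ := by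
          refine (move_congr₂ (h' := ?_) (congrArg (a ≫ ·) hm1) rfl).trans ((move_pull D h _ a x hx).symm.trans ?_)
          · rw [Category.assoc, reassoc_of% (isPullback_pull D h (p' := h ≫ p) (s := 𝟙 S) (Category.comp_id _).symm).w]
            simpa [a] using hx
          · rw [hm1, he]
        have hk : (a' ≫ m ≫ pullback.fst _ _) ≫ dHom D = (a ≫ m ≫ pullback.fst _ _) ≫ dHom D := by
          rw [← he1]
          show move D _ _ _ ≫ D.obj.hom ≫ p = _
          rw [← Category.assoc (move D _ _ _), move_hom]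
          exact hc.symm
        let t'' : T ⟶ pullback (dHom D) y :=
          pullback.lift (a' ≫ m ≫ pullback.fst _ _) (a ≫ m ≫ pullback.snd _ _) (by
            rw [hk]; simp only [Category.assoc, pullback.condition])
        have k1 : (a ≫ m) ≫ π₁ = t'' ≫ π₁ := by
          refine hQ.inv' _ _ (x ≫ h) (by simpa only [Category.assoc] using hc) ?_ ?_
          · exact ((move_congr₂ (Category.assoc _ _ _) rfl).trans he1).trans (pullback.lift_fst _ _ _).symm
          · exact (Category.assoc _ _ _).trans (pullback.lift_snd _ _ _).symm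
        have k2 : t'' ≫ π₁ ≫ gU = (a' ≫ m) ≫ π₁ ≫ gU := by
          refine hdesc _ _ (pullback.hom_ext ?_ ?_)
          · simp [r, t'']
          · simp only [r, t'', Category.assoc, pullback.lift_snd, pullback.lift_snd_assoc, ← pullback.condition]
            exact (pullback.lift_fst_assoc _ _ _ _).trans (by simp only [Category.assoc])
        calc t ≫ (⊤ : D''.obj.left.Opens).ι ≫ m ≫ π₁ ≫ gU = ((a ≫ m) ≫ π₁) ≫ gU := by simp [a]
          _ = t'' ≫ π₁ ≫ gU := by rw [k1, Category.assoc]
          _ = _ := by rw [k2]; simp [a'] }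
  exact quot_of_pull_refine h hT Q

/-- A quotient over a proper surjective base change descends. -/
theorem quot_top_of_proper_baseChange (hp : SGA1.UnivSubmersive p) [Etale D.obj.hom] [IsProper y] [Surjective y]
    [LocallyOfFinitePresentation y] (hQ : IsQuot D y str₁ π₁) [Etale str₁] [IsSeparated str₁] [QuasiCompact str₁] :
    ∃ Q : Quot D ⊤, Etale Q.str :=
  quot_top_of_baseChange hp (univSubmersive_of_closed y) hQ fun E hE => by
    haveI : QuasiCompact E.obj.hom := by rw [hE]; exact ‹QuasiCompact str₁›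
    haveI : IsSeparated E.obj.hom := by rw [hE]; exact ‹IsSeparated str₁›
    haveI : Etale E.obj.hom := by rw [hE]; exact ‹Etale str₁›
    obtain ⟨U, -, -, het, he⟩ := effective_of_proper y E
    exact ⟨U, het, he⟩

end Descend

theorem univSSubtrusive_comp {X Y Z : Scheme.{u}} (f : X ⟶ Y) (g : Y ⟶ Z) (hf : Subtr.UnivSSubtrusive f)
    (hg : Subtr.UnivSSubtrusive g) : Subtr.UnivSSubtrusive (f ≫ g) := by
  intro X' Z' i₁ i₂ h sq
  obtain ⟨l, hl₁, hl₂⟩ := (IsPullback.of_hasPullback g i₂).exists_lift (i₁ ≫ f) h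
    (by rw [Category.assoc, sq.w])
  have s1 : IsPullback l i₁ (pullback.fst g i₂) f := by
    refine IsPullback.of_right ?_ hl₁ (IsPullback.of_hasPullback g i₂).flip
    rw [hl₂]; exact sq
  intro z z' hz
  obtain ⟨y, y', hy, e, e'⟩ := hg _ _ _ (IsPullback.of_hasPullback g i₂).flip hz
  obtain ⟨x, x', hx, d, d'⟩ := hf _ _ _ s1 hy
  refine ⟨x, x', hx, ?_, ?_⟩
  · rw [← hl₂, Scheme.Hom.comp_apply, d, e]
  · rw [← hl₂, Scheme.Hom.comp_apply, d', e']

theorem univSSubtrusive_of_flat {X Y : Scheme.{u}} (f : X ⟶ Y) [Flat f] [Surjective f] :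
    Subtr.UnivSSubtrusive f := by
  intro X' Y' i₁ i₂ f' sq y y' hy
  haveI : Flat f' := MorphismProperty.of_isPullback sq.flip ‹Flat f›
  haveI : Surjective f' := MorphismProperty.of_isPullback sq.flip ‹Surjective f›
  obtain ⟨x, rfl⟩ := f'.surjective y
  obtain ⟨x', hx', e'⟩ := (Flat.generalizingMap f') hy
  exact ⟨x, x', hx', rfl, e'⟩

theorem univSSubtrusive_of_closed {X Y : Scheme.{u}} (f : X ⟶ Y) [UniversallyClosed f] [Surjective f] :
    Subtr.UnivSSubtrusive f := by
  intro X' Y' i₁ i₂ f' sq y y' hy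
  haveI : UniversallyClosed f' := MorphismProperty.of_isPullback sq.flip ‹UniversallyClosed f›
  haveI : Surjective f' := MorphismProperty.of_isPullback sq.flip ‹Surjective f›
  obtain ⟨x', rfl⟩ := f'.surjective y'
  obtain ⟨x, hx, e⟩ := f'.isClosedMap.specializingMap hy
  exact ⟨x, x', hx, e, rfl⟩

/-- Effectivity along a quasi-compact quasi-separated subtrusive cover of an affine scheme. -/
theorem quot_top_of_affine_base {A : Type u} [CommRing A] {X : Scheme.{u}} {g : X ⟶ Spec (CommRingCat.of A)}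
    [QuasiCompact g] [QuasiSeparated g] (hg : Subtr.UnivSSubtrusive g) (D : SchDD g)
    [QuasiCompact D.obj.hom] [IsSeparated D.obj.hom] [Etale D.obj.hom] : ∃ Q : Quot D ⊤, Etale Q.str := by
  have hs : SGA1.UnivSubmersive g := SubtrVal.univSubmersive_of_univSSubtrusive g hg
  haveI := SubmEtLib.surjective_of_univSubmersive hs
  let Df := (_root_.Desc.SchDDFam.ofSchDD g).obj D
  haveI : Etale (Df.obj PUnit.unit).hom := ‹Etale D.obj.hom›
  haveI : QuasiCompact (Df.obj PUnit.unit).hom := ‹QuasiCompact D.obj.hom›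
  haveI : IsSeparated (Df.obj PUnit.unit).hom := ‹IsSeparated D.obj.hom›
  obtain ⟨Y, y, h1, h2, h3, hY⟩ := exists_proper_effAt hg Df
  haveI := h1
  haveI := h2
  haveI := h3
  let D₀ := (_root_.Desc.SchDDFam.toSchDD g).obj Df
  haveI : Etale D₀.obj.hom := ‹Etale D.obj.hom›
  haveI : QuasiCompact D₀.obj.hom := ‹QuasiCompact D.obj.hom›
  haveI : IsSeparated D₀.obj.hom := ‹IsSeparated D.obj.hom›
  let D₁ := pull D₀ (pullback.fst g y) (pullback.condition (f := g) (g := y))
  haveI : Etale D₁.obj.hom := MorphismProperty.of_isPullback (isPullback_pull D₀ _ _) ‹Etale D₀.obj.hom›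
  obtain ⟨Q, hQ⟩ := quot_top_of_cover (D := D₁)
    (MorphismProperty.pullback_snd (P := MorphismProperty.universally _) g y hs) fun v => by
      obtain ⟨O, hO, hE⟩ := hY ((D₁.obj.hom ≫ pullback.snd g y) v)
      obtain ⟨U, str, π, hU, hπ⟩ := (effAt_iff Df _).1 hE
      haveI := hU
      exact ⟨_, hO, quot_of_isQuot_over pullback.condition (pullFst D₀ _ pullback.condition)
        (isPullback_pull D₀ _ _) (fun v x h h' => move_pull D₀ _ _ v x h) O hπ⟩
  haveI := hQ
  obtain ⟨π₁, hπ₁⟩ := isQuot_of_quot_pull Q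
  haveI := hπ₁.isSeparated hs
  haveI := hπ₁.quasiCompact
  exact quot_top_of_proper_baseChange hs hπ₁

variable {S S' : Scheme.{u}}

theorem effAt_affineOpen (g : S' ⟶ S) [QuasiCompact g] (hg : Subtr.UnivSSubtrusive g)
    (D : SchDDFam (fun _ : PUnit.{1} => g)) [Etale (D.obj PUnit.unit).hom]
    [QuasiCompact (D.obj PUnit.unit).hom] [IsSeparated (D.obj PUnit.unit).hom] {A : Type u} [CommRing A]
    (b : Spec (CommRingCat.of A) ⟶ S) : EffAt D b := by
  haveI : CompactSpace ↥(pullback g b) := QuasiCompact.compactSpace_of_compactSpace (pullback.snd g b)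
  let 𝒰 := (pullback g b).affineCover.finiteSubcover
  haveI : ∀ i, IsAffine (𝒰.X i) := fun i => inferInstanceAs (IsAffine ((pullback g b).affineCover.X _))
  let h : ∐ 𝒰.X ⟶ pullback g b := Limits.Sigma.desc 𝒰.f
  haveI : Etale h := IsZariskiLocalAtSource.sigmaDesc fun i => inferInstance
  haveI : Surjective h := ⟨fun x => by
    obtain ⟨i, z, hz⟩ := 𝒰.exists_eq x
    exact ⟨Sigma.ι 𝒰.X i z, by rw [← Scheme.Hom.comp_apply, Sigma.ι_desc]; exact hz⟩⟩
  let p₂ := h ≫ pullback.snd g b
  haveI : IsAffine (∐ 𝒰.X) := inferInstance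
  haveI : IsAffineHom p₂ := isAffineHom_of_isAffine p₂
  have hp₂ : Subtr.UnivSSubtrusive p₂ := univSSubtrusive_comp h _ (univSSubtrusive_of_flat h)
    (MorphismProperty.pullback_snd (P := MorphismProperty.universally _) g b hg)
  let D₀ := (_root_.Desc.SchDDFam.toSchDD g).obj D
  haveI : Etale D₀.obj.hom := ‹Etale (D.obj PUnit.unit).hom›
  haveI : QuasiCompact D₀.obj.hom := ‹QuasiCompact (D.obj PUnit.unit).hom›
  haveI : IsSeparated D₀.obj.hom := ‹IsSeparated (D.obj PUnit.unit).hom›
  let D₁ := pull D₀ (pullback.fst g b) (pullback.condition (f := g) (g := b))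
  let D₂ := pull D₁ h (Category.comp_id p₂).symm
  haveI : Etale D₁.obj.hom := MorphismProperty.of_isPullback (isPullback_pull D₀ _ _) ‹Etale D₀.obj.hom›
  haveI : QuasiCompact D₁.obj.hom := MorphismProperty.of_isPullback (isPullback_pull D₀ _ _) ‹QuasiCompact D₀.obj.hom›
  haveI : IsSeparated D₁.obj.hom := MorphismProperty.of_isPullback (isPullback_pull D₀ _ _) ‹IsSeparated D₀.obj.hom›
  haveI : Etale D₂.obj.hom := MorphismProperty.of_isPullback (isPullback_pull D₁ _ _) ‹Etale D₁.obj.hom›
  haveI : QuasiCompact D₂.obj.hom := MorphismProperty.of_isPullback (isPullback_pull D₁ _ _) ‹QuasiCompact D₁.obj.hom›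
  haveI : IsSeparated D₂.obj.hom := MorphismProperty.of_isPullback (isPullback_pull D₁ _ _) ‹IsSeparated D₁.obj.hom›
  obtain ⟨Q, hQ⟩ := quot_top_of_affine_base hp₂ D₂
  haveI := hQ
  exact effAt_of_refine g D b h (SubtrVal.univSubmersive_of_univSSubtrusive p₂ hp₂) Q

theorem effective_of_univSSubtrusive (g : S' ⟶ S) [QuasiCompact g] (hg : Subtr.UnivSSubtrusive g)
    (D : SchDD g) [QuasiCompact D.obj.hom] [IsSeparated D.obj.hom] [Etale D.obj.hom] :
    ∃ U : Over S, QuasiCompact U.hom ∧ IsSeparated U.hom ∧ Etale U.hom ∧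
      Nonempty ((_root_.Desc.toDD g).obj U ≅ D) := by
  have hs : SGA1.UnivSubmersive g := SubtrVal.univSubmersive_of_univSSubtrusive g hg
  haveI := SubmEtLib.surjective_of_univSubmersive hs
  let Df := (_root_.Desc.SchDDFam.ofSchDD g).obj D
  haveI : Etale (Df.obj PUnit.unit).hom := ‹Etale D.obj.hom›
  haveI : QuasiCompact (Df.obj PUnit.unit).hom := ‹QuasiCompact D.obj.hom›
  haveI : IsSeparated (Df.obj PUnit.unit).hom := ‹IsSeparated D.obj.hom›
  have key : ∀ V : S.affineOpens, EffAt Df V.1.ι := fun V =>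
    (effAt_affineOpen g hg Df V.2.fromSpec).of_comp V.2.isoSpec.hom V.2.isoSpec_hom_fromSpec
  obtain ⟨U₀, hU₀, ⟨e₀⟩⟩ := (SubmEtLib.isEffective_iff_openCover g hs Df (fun V : S.affineOpens => V.1)
    (AlgebraicGeometry.iSup_affineOpens_eq_top S)).2 key
  obtain ⟨U, str, π, hU, hπ⟩ := (effAt_iff Df (𝟙 S)).1 (effAt_of_effective Df (𝟙 S) ⟨U₀, hU₀, ⟨e₀⟩⟩)
  haveI := hU
  haveI : QuasiCompact ((_root_.Desc.SchDDFam.toSchDD g).obj Df).obj.hom := ‹QuasiCompact D.obj.hom›
  haveI : IsSeparated ((_root_.Desc.SchDDFam.toSchDD g).obj Df).obj.hom := ‹IsSeparated D.obj.hom›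
  exact ⟨Over.mk str, hπ.quasiCompact, hπ.isSeparated hs, hU, iso_of_isQuot_id hπ⟩

end Groth.Agent.ValEtDescLib
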