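import Groth.Agent.ValEtDescLib.Separated

/-! Effectivity for separated étale data along universally open or universally closed morphisms. -/

set_option autoImplicit false
set_option linter.style.haveILetI false
set_option backward.isDefEq.respectTransparency false
set_option backward.isDefEq.respectTransparency.types false

universe u
open CategoryTheory CategoryTheory.Limits AlgebraicGeometry

noncomputable section

namespace Groth.Agent.ValEtDescLib

open Groth.Agent.SchDesc Groth.Agent.SubmEtSpread Groth.Agent.QFinEtDesc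
open _root_.Desc (SchDD SchDDFam)

variable {S S' : Scheme.{u}}

theorem effective_of_affine_effAt (g : S' ⟶ S) (hs : SGA1.UnivSubmersive g) (D : SchDD g)
    [IsSeparated D.obj.hom] [Etale D.obj.hom]
    (H : ∀ {A : Type u} [CommRing A] (b : Spec (CommRingCat.of A) ⟶ S),
      EffAt ((_root_.Desc.SchDDFam.ofSchDD g).obj D) b) :
    ∃ U : Over S, IsSeparated U.hom ∧ Etale U.hom ∧ Nonempty ((_root_.Desc.toDD g).obj U ≅ D) := by
  let Df := (_root_.Desc.SchDDFam.ofSchDD g).obj D
  haveI : Etale (Df.obj PUnit.unit).hom := ‹Etale D.obj.hom›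
  haveI : IsSeparated (Df.obj PUnit.unit).hom := ‹IsSeparated D.obj.hom›
  have key : ∀ V : S.affineOpens, EffAt Df V.1.ι := fun V =>
    (H V.2.fromSpec).of_comp V.2.isoSpec.hom V.2.isoSpec_hom_fromSpec
  obtain ⟨U₀, hU₀, ⟨e₀⟩⟩ := (SubmEtLib.isEffective_iff_openCover g hs Df (fun V : S.affineOpens => V.1)
    (AlgebraicGeometry.iSup_affineOpens_eq_top S)).2 key
  obtain ⟨U, str, π, hU, hπ⟩ := (effAt_iff Df (𝟙 S)).1 (effAt_of_effective Df (𝟙 S) ⟨U₀, hU₀, ⟨e₀⟩⟩)
  haveI := hU
  haveI : IsSeparated ((_root_.Desc.SchDDFam.toSchDD g).obj Df).obj.hom := ‹IsSeparated D.obj.hom›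
  exact ⟨Over.mk str, hπ.isSeparated hs, hU, iso_of_isQuot_id hπ⟩

theorem effAt_of_open (g : S' ⟶ S) [UniversallyOpen g] [Surjective g]
    (D : SchDDFam (fun _ : PUnit.{1} => g)) [Etale (D.obj PUnit.unit).hom]
    [IsSeparated (D.obj PUnit.unit).hom] {P : Scheme.{u}} [IsAffine P] (b : P ⟶ S) : EffAt D b := by
  let g' := pullback.snd g b
  haveI : UniversallyOpen g' := MorphismProperty.pullback_snd _ _ inferInstance
  haveI : Surjective g' := MorphismProperty.pullback_snd _ _ inferInstance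
  obtain ⟨s, hs⟩ := (isCompact_univ (X := P)).elim_finite_subcover
    (fun U : (pullback g b).affineOpens => g' '' (U.1 : Set ↥(pullback g b)))
    (fun U => g'.isOpenMap _ U.1.2) (fun y _ => by
      obtain ⟨x, rfl⟩ := g'.surjective y
      obtain ⟨_, ⟨V, hV, rfl⟩, hxV, -⟩ :=
        (pullback g b).isBasis_affineOpens.exists_subset_of_mem_open (Set.mem_univ x) isOpen_univ
      exact Set.mem_iUnion.2 ⟨⟨V, hV⟩, x, hxV, rfl⟩)
  let W : s → Scheme.{u} := fun U => (U.1.1 : Scheme.{u})
  haveI : ∀ i, IsAffine (W i) := fun i => i.1.2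
  let h : ∐ W ⟶ pullback g b := Limits.Sigma.desc fun U => U.1.1.ι
  haveI : Etale h := IsZariskiLocalAtSource.sigmaDesc fun i => inferInstanceAs (Etale i.1.1.ι)
  let p₂ := h ≫ g'
  haveI : IsAffine (∐ W) := inferInstance
  haveI : IsAffineHom p₂ := isAffineHom_of_isAffine p₂
  haveI : UniversallyOpen h := inferInstance
  haveI : UniversallyOpen p₂ := inferInstance
  haveI : Surjective p₂ := ⟨fun y => by
    obtain ⟨U, hU, x, hx, rfl⟩ := Set.mem_iUnion₂.1 (hs (Set.mem_univ y))
    refine ⟨Sigma.ι W ⟨U, hU⟩ ⟨x, hx⟩, ?_⟩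
    rw [← Scheme.Hom.comp_apply, Sigma.ι_desc_assoc]
    rfl⟩
  let D₀ := (_root_.Desc.SchDDFam.toSchDD g).obj D
  haveI : Etale D₀.obj.hom := ‹Etale (D.obj PUnit.unit).hom›
  haveI : IsSeparated D₀.obj.hom := ‹IsSeparated (D.obj PUnit.unit).hom›
  let D₁ := pull D₀ (pullback.fst g b) (pullback.condition (f := g) (g := b))
  let D₂ := pull D₁ h (Category.comp_id p₂).symm
  haveI : Etale D₁.obj.hom := MorphismProperty.of_isPullback (isPullback_pull D₀ _ _) ‹Etale D₀.obj.hom›
  haveI : IsSeparated D₁.obj.hom := MorphismProperty.of_isPullback (isPullback_pull D₀ _ _) ‹IsSeparated D₀.obj.hom›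
  haveI : Etale D₂.obj.hom := MorphismProperty.of_isPullback (isPullback_pull D₁ _ _) ‹Etale D₁.obj.hom›
  haveI : IsSeparated D₂.obj.hom := MorphismProperty.of_isPullback (isPullback_pull D₁ _ _) ‹IsSeparated D₁.obj.hom›
  obtain ⟨Q, hQ⟩ := quot_top_of_open (D := D₂)
  haveI := hQ
  exact effAt_of_refine g D b h (univSubmersive_of_open p₂) Q

theorem effAt_of_closed (g : S' ⟶ S) [UniversallyClosed g] [Surjective g] [LocallyOfFinitePresentation g]
    [QuasiCompact g] [QuasiSeparated g] (D : SchDDFam (fun _ : PUnit.{1} => g)) [Etale (D.obj PUnit.unit).hom]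
    [IsSeparated (D.obj PUnit.unit).hom] {P : Scheme.{u}} [QuasiSeparatedSpace P] (b : P ⟶ S) : EffAt D b := by
  let D₀ := (_root_.Desc.SchDDFam.toSchDD g).obj D
  haveI : Etale D₀.obj.hom := ‹Etale (D.obj PUnit.unit).hom›
  haveI : IsSeparated D₀.obj.hom := ‹IsSeparated (D.obj PUnit.unit).hom›
  let D₁ := pull D₀ (pullback.fst g b) (pullback.condition (f := g) (g := b))
  haveI : Etale D₁.obj.hom := MorphismProperty.of_isPullback (isPullback_pull D₀ _ _) ‹Etale D₀.obj.hom›
  haveI : IsSeparated D₁.obj.hom := MorphismProperty.of_isPullback (isPullback_pull D₀ _ _) ‹IsSeparated D₀.obj.hom›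
  obtain ⟨Q, hQ⟩ := quot_top_of_closed (D := D₁)
  obtain ⟨π, hπ⟩ := isQuot_of_quot_pull Q
  exact (effAt_iff D b).2 ⟨_, Q.str, π, hQ, hπ⟩

theorem effective_of_open (g : S' ⟶ S) [UniversallyOpen g] [Surjective g] (D : SchDD g)
    [IsSeparated D.obj.hom] [Etale D.obj.hom] :
    ∃ U : Over S, IsSeparated U.hom ∧ Etale U.hom ∧ Nonempty ((_root_.Desc.toDD g).obj U ≅ D) :=
  effective_of_affine_effAt g (univSubmersive_of_open g) D fun b => by
    haveI : Etale (((_root_.Desc.SchDDFam.ofSchDD g).obj D).obj PUnit.unit).hom := ‹Etale D.obj.hom›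
    haveI : IsSeparated (((_root_.Desc.SchDDFam.ofSchDD g).obj D).obj PUnit.unit).hom := ‹IsSeparated D.obj.hom›
    exact effAt_of_open g _ b

theorem effective_of_closed (g : S' ⟶ S) [UniversallyClosed g] [Surjective g] [LocallyOfFinitePresentation g]
    [QuasiCompact g] [QuasiSeparated g] (D : SchDD g) [IsSeparated D.obj.hom] [Etale D.obj.hom] :
    ∃ U : Over S, IsSeparated U.hom ∧ Etale U.hom ∧ Nonempty ((_root_.Desc.toDD g).obj U ≅ D) :=
  effective_of_affine_effAt g (univSubmersive_of_closed g) D fun b => by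
    haveI : Etale (((_root_.Desc.SchDDFam.ofSchDD g).obj D).obj PUnit.unit).hom := ‹Etale D.obj.hom›
    haveI : IsSeparated (((_root_.Desc.SchDDFam.ofSchDD g).obj D).obj PUnit.unit).hom := ‹IsSeparated D.obj.hom›
    exact effAt_of_closed g _ b

end Groth.Agent.ValEtDescLib
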