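import Groth.Agent.ValEtDescLib.OpenRefine

/-! Effectivity for separated étale data along subtrusive morphisms of finite presentation. -/

set_option autoImplicit false
set_option linter.style.haveILetI false
set_option backward.isDefEq.respectTransparency false
set_option backward.isDefEq.respectTransparency.types false

universe u
open CategoryTheory CategoryTheory.Limits AlgebraicGeometry

noncomputable section

namespace Groth.Agent.ValEtDescLib

open Groth.Agent.SchDesc Groth.Agent.SubmEtSpread Groth.Agent.QFinEtDesc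
open _root_.Desc (SchDD SchDDFam)

theorem quot_top_of_spec {A : Type u} [CommRing A] {B : CommRingCat.{u}}
    (φ : CommRingCat.of A ⟶ B) (hfp : φ.hom.FinitePresentation) (hg : Subtr.UnivSSubtrusive (Spec.map φ))
    (D : SchDD (Spec.map φ)) [IsSeparated D.obj.hom] [Etale D.obj.hom] : ∃ Q : Quot D ⊤, Etale Q.str := by
  let g := Spec.map φ
  have hs : SGA1.UnivSubmersive g := SubtrVal.univSubmersive_of_univSSubtrusive g hg
  let Df := (_root_.Desc.SchDDFam.ofSchDD g).obj D
  haveI : Etale (Df.obj PUnit.unit).hom := ‹Etale D.obj.hom›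
  haveI : IsSeparated (Df.obj PUnit.unit).hom := ‹IsSeparated D.obj.hom›
  obtain ⟨Y, y, h1, h2, h3, hY⟩ := exists_proper_local (fun f => OpenRefinable g f) (fun H h e => H.of_comp h e)
    fun V _ _ _ _ => exists_fp_openRefinable (A := CommRingCat.of A) (V := CommRingCat.of V) φ hfp hg
  haveI := h1
  haveI := h2
  haveI := h3
  let D₀ := (_root_.Desc.SchDDFam.toSchDD g).obj Df
  haveI : Etale D₀.obj.hom := ‹Etale D.obj.hom›
  haveI : IsSeparated D₀.obj.hom := ‹IsSeparated D.obj.hom›
  let D₁ := pull D₀ (pullback.fst g y) (pullback.condition (f := g) (g := y))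
  haveI : Etale D₁.obj.hom := MorphismProperty.of_isPullback (isPullback_pull D₀ _ _) ‹Etale D₀.obj.hom›
  have hE : ∀ (O : Y.Opens), IsAffine (O : Scheme.{u}) → OpenRefinable g (O.ι ≫ y) → EffAt Df (O.ι ≫ y) := by
    intro O hO ⟨T, t, m, hm, t1, t2, t3, t4⟩
    haveI := hO; haveI := t1; haveI := t2; haveI := t3; haveI := t4
    haveI : QuasiSeparatedSpace T := quasiSeparatedSpace_of_quasiSeparated t
    let h : T ⟶ pullback g (O.ι ≫ y) := pullback.lift m t hm
    have hh : h ≫ pullback.snd g (O.ι ≫ y) = t := pullback.lift_snd _ _ _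
    let D₂ := pull D₀ (pullback.fst g (O.ι ≫ y)) (pullback.condition (f := g) (g := O.ι ≫ y))
    haveI : Etale D₂.obj.hom := MorphismProperty.of_isPullback (isPullback_pull D₀ _ _) ‹Etale D₀.obj.hom›
    haveI : IsSeparated D₂.obj.hom := MorphismProperty.of_isPullback (isPullback_pull D₀ _ _) ‹IsSeparated D₀.obj.hom›
    let D₃ := pull D₂ h (Category.comp_id (h ≫ pullback.snd g (O.ι ≫ y))).symm
    haveI : Etale D₃.obj.hom := MorphismProperty.of_isPullback (isPullback_pull D₂ _ _) ‹Etale D₂.obj.hom›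
    haveI : IsSeparated D₃.obj.hom := MorphismProperty.of_isPullback (isPullback_pull D₂ _ _) ‹IsSeparated D₂.obj.hom›
    haveI : UniversallyOpen (h ≫ pullback.snd g (O.ι ≫ y)) := by rw [hh]; infer_instance
    haveI : Surjective (h ≫ pullback.snd g (O.ι ≫ y)) := by rw [hh]; infer_instance
    haveI : QuasiCompact (h ≫ pullback.snd g (O.ι ≫ y)) := by rw [hh]; infer_instance
    obtain ⟨Q, hQ⟩ := quot_top_of_open (D := D₃)
    haveI := hQ
    exact effAt_of_refine g Df _ h (univSubmersive_of_open _) Q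
  obtain ⟨Q, hQ⟩ := quot_top_of_cover (D := D₁)
    (MorphismProperty.pullback_snd (P := MorphismProperty.universally _) g y hs) fun v => by
      obtain ⟨O, hO, hOa, hR⟩ := hY ((D₁.obj.hom ≫ pullback.snd g y) v)
      obtain ⟨U, str, π, hU, hπ⟩ := (effAt_iff Df _).1 (hE O hOa hR)
      haveI := hU
      exact ⟨_, hO, quot_of_isQuot_over pullback.condition (pullFst D₀ _ pullback.condition)
        (isPullback_pull D₀ _ _) (fun v x h h' => move_pull D₀ _ _ v x h) O hπ⟩
  haveI := hQ
  obtain ⟨π₁, hπ₁⟩ := isQuot_of_quot_pull Q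
  haveI := hπ₁.isSeparated hs
  refine quot_top_of_baseChange hs (univSubmersive_of_closed y) hπ₁ fun E hE' => ?_
  haveI : IsSeparated E.obj.hom := by rw [hE']; exact ‹IsSeparated Q.str›
  haveI : Etale E.obj.hom := by rw [hE']; exact ‹Etale Q.str›
  obtain ⟨U, -, het, he⟩ := effective_of_closed y E
  exact ⟨U, het, he⟩

variable {S S' : Scheme.{u}}

theorem effAt_of_subtrusive (g : S' ⟶ S) [QuasiCompact g] [LocallyOfFinitePresentation g]
    (hg : Subtr.UnivSSubtrusive g) (D : SchDDFam (fun _ : PUnit.{1} => g)) [Etale (D.obj PUnit.unit).hom]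
    [IsSeparated (D.obj PUnit.unit).hom] {A : Type u} [CommRing A] (b : Spec (CommRingCat.of A) ⟶ S) :
    EffAt D b := by
  haveI : CompactSpace ↥(pullback g b) := QuasiCompact.compactSpace_of_compactSpace (pullback.snd g b)
  let 𝒰 := (pullback g b).affineCover.finiteSubcover
  haveI : ∀ i, IsAffine (𝒰.X i) := fun i => inferInstanceAs (IsAffine ((pullback g b).affineCover.X _))
  haveI : IsAffine (∐ 𝒰.X) := inferInstance
  let h₀ : ∐ 𝒰.X ⟶ pullback g b := Limits.Sigma.desc 𝒰.f
  haveI : Etale h₀ := IsZariskiLocalAtSource.sigmaDesc fun i => inferInstance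
  haveI : Surjective h₀ := ⟨fun x => by
    obtain ⟨i, z, hz⟩ := 𝒰.exists_eq x
    exact ⟨Sigma.ι 𝒰.X i z, by rw [← Scheme.Hom.comp_apply, Sigma.ι_desc]; exact hz⟩⟩
  let h := (∐ 𝒰.X).isoSpec.inv ≫ h₀
  let p₂ := h ≫ pullback.snd g b
  haveI : Etale h := inferInstance
  haveI : LocallyOfFinitePresentation (pullback.snd g b) := MorphismProperty.pullback_snd _ _ inferInstance
  haveI : LocallyOfFinitePresentation p₂ := inferInstance
  have hp₂ : Subtr.UnivSSubtrusive p₂ := univSSubtrusive_comp h _ (univSSubtrusive_of_flat h)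
    (MorphismProperty.pullback_snd (P := MorphismProperty.universally _) g b hg)
  let D₀ := (_root_.Desc.SchDDFam.toSchDD g).obj D
  haveI : Etale D₀.obj.hom := ‹Etale (D.obj PUnit.unit).hom›
  haveI : IsSeparated D₀.obj.hom := ‹IsSeparated (D.obj PUnit.unit).hom›
  let D₁ := pull D₀ (pullback.fst g b) (pullback.condition (f := g) (g := b))
  let D₂ := pull D₁ h (Category.comp_id p₂).symm
  haveI : Etale D₁.obj.hom := MorphismProperty.of_isPullback (isPullback_pull D₀ _ _) ‹Etale D₀.obj.hom›
  haveI : IsSeparated D₁.obj.hom := MorphismProperty.of_isPullback (isPullback_pull D₀ _ _) ‹IsSeparated D₀.obj.hom›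
  haveI : Etale D₂.obj.hom := MorphismProperty.of_isPullback (isPullback_pull D₁ _ _) ‹Etale D₁.obj.hom›
  haveI : IsSeparated D₂.obj.hom := MorphismProperty.of_isPullback (isPullback_pull D₁ _ _) ‹IsSeparated D₁.obj.hom›
  obtain ⟨Q, hQ⟩ : ∃ Q : Quot D₂ ⊤, Etale Q.str := by
    suffices key : ∀ (r : Spec Γ(∐ 𝒰.X, ⊤) ⟶ Spec (CommRingCat.of A)) (E : SchDD r), LocallyOfFinitePresentation r →
        Subtr.UnivSSubtrusive r → IsSeparated E.obj.hom → Etale E.obj.hom → ∃ Q : Quot E ⊤, Etale Q.str from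
      key p₂ D₂ inferInstance hp₂ inferInstance inferInstance
    intro r E hl hr hsep het
    obtain ⟨φ, rfl⟩ := Spec.map_surjective r
    exact quot_top_of_spec φ ((HasRingHomProperty.Spec_iff (P := @LocallyOfFinitePresentation)).1 hl) hr E
  haveI := hQ
  exact effAt_of_refine g D b h (SubtrVal.univSubmersive_of_univSSubtrusive p₂ hp₂) Q

theorem effective_of_subtrusive_fp (g : S' ⟶ S) [QuasiCompact g] [LocallyOfFinitePresentation g]
    (hg : Subtr.UnivSSubtrusive g) (D : SchDD g) [IsSeparated D.obj.hom] [Etale D.obj.hom] :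
    ∃ U : Over S, IsSeparated U.hom ∧ Etale U.hom ∧ Nonempty ((_root_.Desc.toDD g).obj U ≅ D) :=
  effective_of_affine_effAt g (SubtrVal.univSubmersive_of_univSSubtrusive g hg) D fun b => by
    haveI : Etale (((_root_.Desc.SchDDFam.ofSchDD g).obj D).obj PUnit.unit).hom := ‹Etale D.obj.hom›
    haveI : IsSeparated (((_root_.Desc.SchDDFam.ofSchDD g).obj D).obj PUnit.unit).hom := ‹IsSeparated D.obj.hom›
    exact effAt_of_subtrusive g hg _ b

end Groth.Agent.ValEtDescLib
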