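import Groth.Agent.SubmEtSpread.Completion
import Groth.Agent.QFinEtDesc.QuasiSec
import Groth.Agent.SubtrVal.Submersive

/-! Effectivity of descent at a valuation ring. -/

set_option autoImplicit false
set_option linter.style.haveILetI false
set_option backward.isDefEq.respectTransparency false
set_option backward.isDefEq.respectTransparency.types false

universe u
open CategoryTheory CategoryTheory.Limits AlgebraicGeometry IsLocalRing

noncomputable section

namespace Groth.Agent.ValEtDescLib

open Groth.Agent.SchDesc Groth.Agent.SubmEtSpread Groth.Agent.QFinEtDesc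
open _root_.Desc (SchDD SchDDFam)

theorem quot_top_of_isIso {X P : Scheme.{u}} {r : X ⟶ P} [IsIso r] (D : SchDD r) [Etale D.obj.hom] :
    ∃ Q : Quot D ⊤, Etale Q.str := by
  refine ⟨⟨_, (⊤ : D.obj.left.Opens).ι ≫ D.obj.hom ≫ r, 𝟙 _, ?_, stable_top, fun t t' x hx he => ?_⟩, inferInstance⟩
  · exact IsPullback.of_vert_isIso ⟨by simp⟩
  · have hx' : (t ≫ (⊤ : D.obj.left.Opens).ι) ≫ D.obj.hom = x := by
      rw [← cancel_mono r, Category.assoc]; exact hx
    rw [move_self D _ _ _ hx'] at he
    rw [← cancel_mono (⊤ : D.obj.left.Opens).ι, Category.comp_id, Category.comp_id, he]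

theorem injective_of_surjective_specMap {V W : Type u} [CommRing V] [IsDomain V] [CommRing W] (φ : V →+* W)
    [Surjective (Spec.map (CommRingCat.ofHom φ))] : Function.Injective φ := by
  obtain ⟨w, hw⟩ := (Spec.map (CommRingCat.ofHom φ)).surjective (⊥ : PrimeSpectrum V)
  refine (injective_iff_map_eq_zero φ).2 fun a ha => ?_
  have h : a ∈ (PrimeSpectrum.comap φ w).asIdeal := by
    show φ a ∈ w.asIdeal
    rw [ha]; exact w.asIdeal.zero_mem
  rw [show PrimeSpectrum.comap φ w = ⊥ from hw] at h
  exact h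

theorem effAt_valuationRing {X S : Scheme.{u}} {g : X ⟶ S} [QuasiCompact g] (hg : Subtr.UnivSSubtrusive g)
    (D : SchDDFam (fun _ : PUnit.{1} => g)) [Etale (D.obj PUnit.unit).hom]
    [QuasiCompact (D.obj PUnit.unit).hom] [IsSeparated (D.obj PUnit.unit).hom]
    {V : Type u} [CommRing V] [IsDomain V] [ValuationRing V] (f : Spec (CommRingCat.of V) ⟶ S) : EffAt D f := by
  obtain ⟨a, a', ha, e, e'⟩ := (SubtrVal.univSSubtrusive_iff_valuationRing g).1 hg V f
    ((PrimeSpectrum.le_iff_specializes ⊥ (closedPoint V)).1 bot_le)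
  obtain ⟨W, _, _, _, m, hm⟩ := SubtrVal.exists_lift_of_pair (pullback.snd g f) ha e' e
  obtain ⟨φ, hφ⟩ := Spec.map_surjective (m ≫ pullback.snd g f)
  haveI : Surjective (Spec.map (CommRingCat.ofHom φ.hom)) := by
    rw [show CommRingCat.ofHom φ.hom = φ from rfl, hφ]; exact hm
  haveI : Flat (m ≫ pullback.snd g f) := by
    rw [← hφ]
    refine (HasRingHomProperty.Spec_iff (P := @Flat)).2 ?_
    algebraize [φ.hom]
    haveI : IsDomain W := inferInstance
    haveI : IsBezout V := inferInstance
    refine RingHom.flat_algebraMap_iff.mpr ((Module.Flat.flat_iff_torsion_eq_bot_of_isBezout (R := V)).2 ?_)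
    refine (Submodule.eq_bot_iff _).2 fun w ⟨⟨r, hr⟩, hw⟩ => ?_
    have h1 : φ.hom r * w = 0 := hw
    rcases mul_eq_zero.1 h1 with h | h
    · exact absurd ((map_eq_zero_iff _ (injective_of_surjective_specMap φ.hom)).1 h) (nonZeroDivisors.ne_zero hr)
    · exact h
  haveI := hm
  haveI : QuasiCompact (m ≫ pullback.snd g f) := inferInstance
  refine effAt_of_baseChange (SubtrVal.univSubmersive_of_univSSubtrusive g hg) D (m ≫ pullback.snd g f) rfl ?_
  let b := (m ≫ pullback.snd g f) ≫ f
  let h : Spec (CommRingCat.of W) ⟶ pullback g b :=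
    pullback.lift (m ≫ pullback.fst g f) (𝟙 _) (by simp [b, pullback.condition])
  haveI : IsIso (h ≫ pullback.snd g b) := by rw [pullback.lift_snd]; infer_instance
  let D₀ := (_root_.Desc.SchDDFam.toSchDD g).obj D
  haveI : Etale D₀.obj.hom := ‹Etale (D.obj PUnit.unit).hom›
  let D₁ := pull D₀ (pullback.fst g b) (pullback.condition (f := g) (g := b))
  let D₂ := pull D₁ h (Category.comp_id (h ≫ pullback.snd g b)).symm
  haveI : Etale D₁.obj.hom := MorphismProperty.of_isPullback (isPullback_pull D₀ _ _) ‹Etale D₀.obj.hom›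
  haveI : Etale D₂.obj.hom := MorphismProperty.of_isPullback (isPullback_pull D₁ _ _) ‹Etale D₁.obj.hom›
  obtain ⟨Q, hQ⟩ := quot_top_of_isIso D₂
  haveI := hQ
  exact effAt_of_refine g D b h (univSubmersive_of_open _) Q

end Groth.Agent.ValEtDescLib
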