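import Groth.Agent.ValEtDescLib.ValSystem
import Groth.Agent.ValEtDescLib.ValPoint
import Groth.Agent.ValEtDescLib.ProperLocal
import Groth.Agent.QFinEtDesc.Main
import Groth.Agent.QFinEtDesc.Proper
import Groth.Agent.QFinEtDesc.OverBase
import Groth.Agent.QFinEtDesc.GlueStable

/-! Effectivity of descent of étale morphisms along a quasi-compact universally subtrusive cover of an affine
scheme. -/

set_option autoImplicit false
set_option linter.style.haveILetI false
set_option backward.isDefEq.respectTransparency false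
set_option backward.isDefEq.respectTransparency.types false

universe u
open CategoryTheory CategoryTheory.Limits AlgebraicGeometry

noncomputable section

namespace Groth.Agent.ValEtDescLib

open Groth.Agent.SchDesc Groth.Agent.SubmEtSpread Groth.Agent.QFinEtDesc
open _root_.Desc (SchDD SchDDFam)

theorem univSubmersive_comp {X Y Z : Scheme.{u}} (f : X ⟶ Y) (g : Y ⟶ Z) (hf : SGA1.UnivSubmersive f)
    (hg : SGA1.UnivSubmersive g) : SGA1.UnivSubmersive (f ≫ g) := by
  intro X' Z' i₁ i₂ h sq
  obtain ⟨l, hl₁, hl₂⟩ := (IsPullback.of_hasPullback g i₂).exists_lift (i₁ ≫ f) h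
    (by rw [Category.assoc, sq.w])
  have s1 : IsPullback l i₁ (pullback.fst g i₂) f := by
    refine IsPullback.of_right ?_ hl₁ (IsPullback.of_hasPullback g i₂).flip
    rw [hl₂]; exact sq
  have h1 := (hg _ _ _ (IsPullback.of_hasPullback g i₂).flip).comp (hf _ _ _ s1)
  rw [← hl₂]
  exact h1

variable {A : Type u} [CommRing A] {X : Scheme.{u}} {g : X ⟶ Spec (CommRingCat.of A)}

theorem exists_proper_effAt [QuasiCompact g] [QuasiSeparated g] (hg : Subtr.UnivSSubtrusive g)
    (D : SchDDFam (fun _ : PUnit.{1} => g)) [Etale (D.obj PUnit.unit).hom]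
    [QuasiCompact (D.obj PUnit.unit).hom] [IsSeparated (D.obj PUnit.unit).hom] :
    ∃ (Y : Scheme.{u}) (y : Y ⟶ Spec (CommRingCat.of A)), IsProper y ∧ Surjective y ∧
      LocallyOfFinitePresentation y ∧ ∀ z : Y, ∃ O : Y.Opens, z ∈ O ∧ EffAt D (O.ι ≫ y) := by
  haveI := SubmEtLib.surjective_of_univSubmersive (SubtrVal.univSubmersive_of_univSSubtrusive g hg)
  obtain ⟨Y, y, h1, h2, h3, h⟩ := exists_proper_local (fun f => EffAt D f) (fun H h e => H.of_comp h e)
    fun V _ _ _ _ => exists_fp_effAt D (effAt_valuationRing hg D (V := V) _)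
  refine ⟨Y, y, h1, h2, h3, fun z => ?_⟩
  obtain ⟨O, hO, -, hE⟩ := h z
  exact ⟨O, hO, hE⟩

end Groth.Agent.ValEtDescLib
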