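import Mathlib

/-! Finitely many charts cover all valuations of a ring, over a finitely generated subring. -/

set_option autoImplicit false
set_option linter.style.haveILetI false

universe u v

noncomputable section

namespace Groth.Agent.ValEtDescLib

/-- A chart: a denominator, numerators and relations among the fractions. -/
structure Chart (A : Type u) [CommRing A] : Type u where
  /-- the number of fractions -/
  n : ℕ
  /-- the denominator -/
  den : A
  /-- the numerators -/
  num : Fin n → A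
  /-- the relations -/
  rels : Finset (MvPolynomial (Fin n) A)

variable {A : Type u} [CommRing A]

/-- The homogenized value of a polynomial. -/
def homVal {n : ℕ} (s : A) (a : Fin n → A) (r : MvPolynomial (Fin n) A) : A :=
  ∑ m ∈ r.support, r.coeff m * (∏ i, a i ^ m i) * s ^ (r.totalDegree - ∑ i, m i)

theorem map_homVal {K : Type v} [Field K] (ψ : A →+* K) {n : ℕ} (s : A) (a : Fin n → A)
    (r : MvPolynomial (Fin n) A) (hs : ψ s ≠ 0) :
    ψ (homVal s a r) = ψ s ^ r.totalDegree * MvPolynomial.eval₂ ψ (fun i => ψ (a i) / ψ s) r := by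
  rw [homVal, map_sum, MvPolynomial.eval₂_eq', Finset.mul_sum]
  refine Finset.sum_congr rfl fun m hm => ?_
  have hd : ∑ i, m i ≤ r.totalDegree := by
    refine le_trans (le_of_eq ?_) (MvPolynomial.le_totalDegree hm)
    rw [Finsupp.sum_fintype _ _ fun _ => rfl]
  simp only [map_mul, map_prod, map_pow, div_pow, Finset.prod_div_distrib, Finset.prod_pow_eq_pow_sum]
  rw [pow_sub₀ _ hs hd]
  field_simp

theorem map_homVal_map {B : Type u} [CommRing B] (f : A →+* B) (hf : Function.Injective f) {n : ℕ} (s : A)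
    (a : Fin n → A) (r : MvPolynomial (Fin n) A) :
    f (homVal s a r) = homVal (f s) (fun i => f (a i)) (MvPolynomial.map f r) := by
  have hs := MvPolynomial.support_map_of_injective r hf
  have ht : (MvPolynomial.map f r).totalDegree = r.totalDegree := by
    simp only [MvPolynomial.totalDegree, hs]
  simp [homVal, hs, ht, MvPolynomial.coeff_map]

/-- The chart contains the valuation given by `ψ` and `O`. -/
def Chart.Has {K : Type v} [Field K] (c : Chart A) (ψ : A →+* K) (O : ValuationSubring K) : Prop :=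
  ψ c.den ≠ 0 ∧ (∀ i, ψ (c.num i) / ψ c.den ∈ O) ∧
    ∀ r ∈ c.rels, MvPolynomial.eval₂ ψ (fun i => ψ (c.num i) / ψ c.den) r = 0

/-- Change of ring. -/
def Chart.map {B : Type u} [CommRing B] (c : Chart A) (f : A →+* B) : Chart B where
  n := c.n
  den := f c.den
  num i := f (c.num i)
  rels := by classical exact c.rels.image (MvPolynomial.map f)

variable (A) in
/-- The space of binary relations. -/
abbrev RelSpace : Type u := A × A → Bool

private theorem isClopen_rel (x y : A) : IsClopen {r : RelSpace A | r (x, y) = true} :=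
  (isClopen_discrete ({true} : Set Bool)).preimage (continuous_apply (x, y))

/-- The axioms of a valuative relation bounded by one, at a triple. -/
def axSet (t : A × A × A) : Set (RelSpace A) :=
  {r | (r (t.1, t.2.1) = true ∨ r (t.2.1, t.1) = true) ∧
    (r (t.1, t.2.1) = true → r (t.2.1, t.2.2) = true → r (t.1, t.2.2) = true) ∧
    (r (t.1, t.2.2) = true → r (t.2.1, t.2.2) = true → r (t.1 + t.2.1, t.2.2) = true) ∧
    (r (t.1, t.2.1) = true → r (t.1 * t.2.2, t.2.1 * t.2.2) = true) ∧
    (¬ r (t.2.2, 0) = true → r (t.1 * t.2.2, t.2.1 * t.2.2) = true → r (t.1, t.2.1) = true) ∧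
    ¬ r (1, 0) = true ∧ r (t.1, 1) = true}

theorem isClosed_axSet (t : A × A × A) : IsClosed (axSet t) := by
  have h : ∀ x y : A, IsClopen {r : RelSpace A | r (x, y) = true} := isClopen_rel
  refine ((h _ _).union (h _ _)).1.inter ((isClosed_imp (h _ _).2 (isClosed_imp (h _ _).2 (h _ _).1)).inter
    ((isClosed_imp (h _ _).2 (isClosed_imp (h _ _).2 (h _ _).1)).inter
      ((isClosed_imp (h _ _).2 (h _ _).1).inter
        ((isClosed_imp (h _ _).compl.2 (isClosed_imp (h _ _).2 (h _ _).1)).inter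
          ((h _ _).compl.1.inter (h _ _).1)))))

/-- The relations satisfying the chart. -/
def chartSet (c : Chart A) : Set (RelSpace A) :=
  {r | ¬ r (c.den, 0) = true ∧ (∀ i, r (c.num i, c.den) = true) ∧
    ∀ q ∈ c.rels, r (homVal c.den c.num q, 0) = true}

theorem isOpen_chartSet (c : Chart A) : IsOpen (chartSet c) := by
  refine (isClopen_rel _ _).compl.2.inter (IsOpen.inter ?_ ?_)
  · show IsOpen {r : RelSpace A | ∀ i, r (c.num i, c.den) = true}
    rw [Set.setOf_forall]
    exact isOpen_iInter_of_finite fun i => (isClopen_rel _ _).2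
  · show IsOpen {r : RelSpace A | ∀ q ∈ c.rels, r (homVal c.den c.num q, 0) = true}
    simp only [Set.setOf_forall]
    exact isOpen_biInter_finset fun q _ => (isClopen_rel _ _).2

theorem exists_chart_of_rel (Good : Chart A → Prop)
    (H : ∀ (K : Type u) [Field K] (ψ : A →+* K) (O : ValuationSubring K), (∀ x, ψ x ∈ O) →
      ∃ c, Good c ∧ c.Has ψ O)
    {r : RelSpace A} (hr : ∀ t, r ∈ axSet t) : ∃ c, Good c ∧ r ∈ chartSet c := by
  letI iV : ValuativeRel A :=
    { vle := fun x y => r (x, y) = true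
      vle_total := fun x y => (hr (x, y, 0)).1
      vle_trans := fun {z y x} h h' => (hr (x, y, z)).2.1 h h'
      vle_add := fun {x y z} h h' => (hr (x, y, z)).2.2.1 h h'
      mul_vle_mul_left := fun {x y} h z => (hr (x, y, z)).2.2.2.1 h
      vle_mul_cancel := fun {x y z} h h' => (hr (x, y, z)).2.2.2.2.1 h h'
      not_vle_one_zero := (hr (0, 0, 0)).2.2.2.2.2.1
      vle_mul_comm := fun {x y} => by
        rw [mul_comm x y]
        exact (hr (y * x, y * x, 0)).1.elim id id }
  let v := ValuativeRel.valuation A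
  haveI : v.supp.IsPrime := inferInstance
  let K := FractionRing (A ⧸ v.supp)
  have hS : nonZeroDivisors (A ⧸ v.supp) ≤ (v.onQuot le_rfl).supp.primeCompl := fun x hx h => by
    rw [SetLike.mem_coe, Valuation.supp_quot_supp] at h
    exact nonZeroDivisors.ne_zero hx h
  let w : Valuation K _ := (v.onQuot le_rfl).extendToLocalization hS K
  let ψ : A →+* K := (algebraMap (A ⧸ v.supp) K).comp (Ideal.Quotient.mk v.supp)
  have hw : ∀ x, w (ψ x) = v x := fun x => by
    exact ((v.onQuot le_rfl).extendToLocalization_apply_map_apply hS K (Ideal.Quotient.mk v.supp x)).trans rfl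
  have hle : ∀ x y, r (x, y) = true ↔ v x ≤ v y := fun x y => Valuation.Compatible.vle_iff_le (v := v) x y
  obtain ⟨c, hc, hden, hnum, hrels⟩ := H K ψ w.valuationSubring fun x => by
    show w (ψ x) ≤ 1
    rw [hw, ← map_one v, ← hle]
    exact (hr (x, 0, 0)).2.2.2.2.2.2
  have hden' : v c.den ≠ 0 := by
    rwa [← hw, ne_eq, map_eq_zero]
  refine ⟨c, hc, ?_, fun i => ?_, fun q hq => ?_⟩
  · rw [hle, map_zero, le_zero_iff]
    exact hden'
  · rw [hle, ← hw, ← hw]
    have h : w (ψ (c.num i) / ψ c.den) ≤ 1 := hnum i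
    rwa [map_div₀, div_le_one₀ (zero_lt_iff.2 (by rw [hw]; exact hden'))] at h
  · rw [hle, map_zero, le_zero_iff, ← hw, map_eq_zero, map_homVal ψ _ _ _ hden, hrels q hq, mul_zero]

/-- Finitely many good charts defined over a finitely generated subring contain all valuations of it. -/
theorem exists_finite_charts (Good : Chart A → Prop)
    (H : ∀ (K : Type u) [Field K] (ψ : A →+* K) (O : ValuationSubring K), (∀ x, ψ x ∈ O) →
      ∃ c, Good c ∧ c.Has ψ O) :
    ∃ (A₀ : Subalgebra ℤ A) (cs : Finset (Chart A₀)), A₀.FG ∧ (∀ c ∈ cs, Good (c.map A₀.val.toRingHom)) ∧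
      ∀ (K : Type u) [Field K] (ψ : A₀ →+* K) (O : ValuationSubring K), (∀ x, ψ x ∈ O) → ∃ c ∈ cs, c.Has ψ O := by
  classical
  obtain ⟨u, hu⟩ := (isCompact_univ (X := RelSpace A)).elim_finite_subfamily_closed
    (Sum.elim axSet fun c : {c : Chart A // Good c} => (chartSet c.1)ᶜ)
    (by rintro (t | c)
        · exact isClosed_axSet t
        · exact (isOpen_chartSet c.1).isClosed_compl)
    (Set.eq_empty_iff_forall_notMem.2 fun r ⟨_, hr⟩ => by
      rw [Set.mem_iInter] at hr
      obtain ⟨c, hc, hrc⟩ := exists_chart_of_rel Good H (r := r) fun t => hr (Sum.inl t)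
      exact hr (Sum.inr ⟨c, hc⟩) hrc)
  let G : {c : Chart A // Good c} → Finset A := fun c =>
    insert c.1.den (Finset.univ.image c.1.num ∪ c.1.rels.biUnion fun q => q.support.image fun m => q.coeff m)
  let gens : Finset A := u.biUnion (Sum.elim (fun t => {t.1, t.2.1, t.2.2}) G)
  let A₀ : Subalgebra ℤ A := Algebra.adjoin ℤ (gens : Set A)
  have hgen : ∀ x ∈ gens, x ∈ A₀ := fun x hx => Algebra.subset_adjoin hx
  have hG : ∀ c, Sum.inr c ∈ u → ∀ x ∈ G c, x ∈ A₀ := fun c hc x hx =>
    hgen x (Finset.mem_biUnion.2 ⟨_, hc, hx⟩)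
  have hlift : ∀ c : {c : Chart A // Good c}, Sum.inr c ∈ u →
      ∃ c₀ : Chart A₀, c₀.map A₀.val.toRingHom = c.1 := by
    rintro ⟨⟨n, den, num, rels⟩, hc⟩ hcu
    have hq : ∀ q : rels, ∃ q₀ : MvPolynomial (Fin n) A₀, MvPolynomial.map A₀.val.toRingHom q₀ = q.1 := fun q => by
      refine RingHom.mem_range.1 (MvPolynomial.mem_range_map_iff_coeffs_subset.2 fun x hx => ?_)
      obtain ⟨m, hm, rfl⟩ := MvPolynomial.mem_coeffs_iff.1 hx
      exact ⟨⟨_, hG _ hcu _ (Finset.mem_insert_of_mem (Finset.mem_union_right _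
        (Finset.mem_biUnion.2 ⟨q.1, q.2, Finset.mem_image_of_mem _ hm⟩)))⟩, rfl⟩
    choose q₀ hq₀ using hq
    refine ⟨⟨n, ⟨den, hG _ hcu _ (Finset.mem_insert_self _ _)⟩,
      fun i => ⟨num i, hG _ hcu _ (Finset.mem_insert_of_mem (Finset.mem_union_left _
        (Finset.mem_image_of_mem _ (Finset.mem_univ i))))⟩, rels.attach.image q₀⟩, ?_⟩
    simp only [Chart.map, Chart.mk.injEq, heq_eq_eq, true_and]
    refine ⟨rfl, rfl, ?_⟩
    rw [Finset.image_image, show MvPolynomial.map A₀.val.toRingHom ∘ q₀ = Subtype.val from funext hq₀,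
      Finset.attach_image_val]
  choose c₀ hc₀ using hlift
  let cs : Finset (Chart A₀) := u.attach.biUnion fun i => match i with
    | ⟨Sum.inl _, _⟩ => ∅
    | ⟨Sum.inr c, h⟩ => {c₀ c h}
  have hcs : ∀ c h, c₀ c h ∈ cs := fun c h =>
    Finset.mem_biUnion.2 ⟨⟨Sum.inr c, h⟩, Finset.mem_attach _ _, Finset.mem_singleton_self _⟩
  refine ⟨A₀, cs, Subalgebra.fg_def.2 ⟨gens, gens.finite_toSet, rfl⟩, fun c hc => ?_, fun K _ ψ O hO => ?_⟩
  · obtain ⟨⟨i, hi⟩, -, hci⟩ := Finset.mem_biUnion.1 hc
    rcases i with t | c'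
    · exact absurd hci (Finset.notMem_empty _)
    · rw [Finset.mem_singleton.1 hci, hc₀]
      exact c'.2
  let r : RelSpace A := fun x =>
    if h : x.1 ∈ A₀ ∧ x.2 ∈ A₀ then decide (O.valuation (ψ ⟨x.1, h.1⟩) ≤ O.valuation (ψ ⟨x.2, h.2⟩)) else false
  have hr : ∀ x y : A₀, r (x.1, y.1) = true ↔ O.valuation (ψ x) ≤ O.valuation (ψ y) := fun x y => by
    simp [r, x.2, y.2]
  have hnot : r ∉ ⋂ i ∈ u, Sum.elim axSet (fun c : {c : Chart A // Good c} => (chartSet c.1)ᶜ) i := fun h =>
    (Set.eq_empty_iff_forall_notMem.1 hu r) ⟨trivial, h⟩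
  simp only [Set.mem_iInter, not_forall] at hnot
  obtain ⟨i, hi, hri⟩ := hnot
  rcases i with t | c
  · refine absurd ?_ hri
    obtain ⟨a, b, c⟩ := t
    have hm : ∀ x ∈ ({a, b, c} : Finset A), x ∈ A₀ := fun x hx => hgen x (Finset.mem_biUnion.2 ⟨_, hi, hx⟩)
    obtain ⟨a, rfl⟩ : ∃ a' : A₀, a'.1 = a := ⟨⟨a, hm a (by simp)⟩, rfl⟩
    obtain ⟨b, rfl⟩ : ∃ a' : A₀, a'.1 = b := ⟨⟨b, hm b (by simp)⟩, rfl⟩
    obtain ⟨c, rfl⟩ : ∃ a' : A₀, a'.1 = c := ⟨⟨c, hm c (by simp)⟩, rfl⟩
    have h01 : r ((1 : A₀).1, (0 : A₀).1) ≠ true := fun h => by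
      have := (hr 1 0).1 h
      simp at this
    refine ⟨?_, fun h h' => (hr a c).2 (((hr a b).1 h).trans ((hr b c).1 h')), fun h h' => ?_, fun h => ?_,
      fun h h' => ?_, h01, ?_⟩
    · rcases le_total (O.valuation (ψ a)) (O.valuation (ψ b)) with h | h
      · exact Or.inl ((hr a b).2 h)
      · exact Or.inr ((hr b a).2 h)
    · refine (hr (a + b) c).2 ?_
      rw [map_add]
      exact (O.valuation.map_add_le ((hr a c).1 h) ((hr b c).1 h'))
    · refine (hr (a * c) (b * c)).2 ?_
      rw [map_mul, map_mul, map_mul, map_mul]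
      exact mul_le_mul' ((hr a b).1 h) le_rfl
    · have hc : O.valuation (ψ c) ≠ 0 := fun e => h ((hr c 0).2 (by rw [e]; exact zero_le))
      have := (hr (a * c) (b * c)).1 h'
      rw [map_mul, map_mul, map_mul, map_mul] at this
      exact (hr a b).2 (le_of_mul_le_mul_right this (zero_lt_iff.2 hc))
    · refine (hr a 1).2 ?_
      rw [map_one, map_one]
      exact (O.valuation_le_one_iff _).2 (hO a)
  · have hrc : r ∈ chartSet c.1 := not_not.1 hri
    refine ⟨_, hcs c hi, ?_⟩
    rw [← hc₀ c hi] at hrc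
    set c' := c₀ c hi
    obtain ⟨hden, hnum, hrels⟩ := hrc
    have hden' : ψ c'.den ≠ 0 := fun e => hden ((hr c'.den 0).2 (by rw [e, map_zero]; exact zero_le))
    refine ⟨hden', fun i => ?_, fun q hq => ?_⟩
    · rw [← O.valuation_le_one_iff, map_div₀, div_le_one₀ (zero_lt_iff.2 (by rwa [ne_eq, map_eq_zero]))]
      exact (hr _ _).1 (hnum i)
    · have h0 := hrels (MvPolynomial.map A₀.val.toRingHom q) (Finset.mem_image_of_mem _ hq)
      have h1 : (homVal c'.den c'.num q).1 = homVal (c'.map A₀.val.toRingHom).den (c'.map A₀.val.toRingHom).num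
          (MvPolynomial.map A₀.val.toRingHom q) :=
        (map_homVal_map A₀.val.toRingHom Subtype.val_injective c'.den c'.num q)
      rw [← h1, show (0 : A) = (0 : A₀).1 from rfl, hr, map_zero, map_zero, le_zero_iff, map_eq_zero,
        map_homVal ψ _ _ _ hden', mul_eq_zero] at h0
      exact h0.resolve_left (pow_ne_zero _ hden')

end Groth.Agent.ValEtDescLib
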