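import Groth.Agent.ValEtDescLib.StableOpen
import Groth.Agent.FpqcDesc.Topo
import Groth.Agent.FLCLib.Topology

/-! Effectivity for separated étale data along open or closed covers. -/

set_option autoImplicit false
set_option linter.style.haveILetI false
set_option backward.isDefEq.respectTransparency false
set_option backward.isDefEq.respectTransparency.types false

universe u
open CategoryTheory CategoryTheory.Limits AlgebraicGeometry

noncomputable section

namespace Groth.Agent.ValEtDescLib

open Groth.Agent.SchDesc Groth.Agent.SubmEtSpread Groth.Agent.QFinEtDesc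
open _root_.Desc (SchDD SchDDFam)

variable {X S : Scheme.{u}} {p : X ⟶ S} (D : SchDD p)

/-- The projection of the scheme of pairs. -/
abbrev pr : pullback (dHom D) p ⟶ D.obj.left := pullback.fst (dHom D) p

/-- Reversal of a pair. -/
def rev : pullback (dHom D) p ⟶ pullback (dHom D) p :=
  pullback.lift (act D) (pr D ≫ D.obj.hom) (by
    rw [← Category.assoc (act D), act_hom, ← pullback.condition, Category.assoc])

theorem rev_fst : rev D ≫ pr D = act D := pullback.lift_fst _ _ _

theorem rev_act : rev D ≫ act D = pr D := by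
  have hc : act D ≫ D.obj.hom ≫ p = (pr D ≫ D.obj.hom) ≫ p := by
    rw [← Category.assoc (act D), act_hom, ← pullback.condition, Category.assoc]
  show move D (act D) (pr D ≫ D.obj.hom) hc = pr D
  have hm : act D = move D (pr D) (pullback.snd _ _) pullback.condition := by
    rw [move]
    conv_lhs => rw [← Category.id_comp (act D)]
    congr 1
    apply pullback.hom_ext <;> simp
  refine (move_congr₂ hm rfl (h' := ?_)).trans ?_
  · rw [← Category.assoc (move D _ _ _), move_hom, ← pullback.condition, Category.assoc]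
  rw [move_move D _ _ _ _ _ (Category.assoc _ _ _).symm]
  exact move_self D _ _ _ rfl

theorem rev_rev : rev D ≫ rev D = 𝟙 _ := by
  refine pullback.hom_ext ?_ ?_
  · rw [Category.assoc, rev_fst, rev_act, Category.id_comp]
  · rw [Category.assoc, rev, pullback.lift_snd, ← Category.assoc]
    erw [rev_fst]
    rw [act_hom, Category.id_comp]

instance : IsIso (rev D) := ⟨rev D, rev_rev D, rev_rev D⟩

/-- Saturation of a set of points. -/
def sat (A : Set D.obj.left) : Set D.obj.left := act D '' (pr D ⁻¹' A)

theorem sat_eq (A : Set D.obj.left) : sat D A = pr D '' (act D ⁻¹' A) := by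
  ext y
  constructor
  · rintro ⟨z, hz, rfl⟩
    exact ⟨rev D z, by show act D (rev D z) ∈ A; rw [← Scheme.Hom.comp_apply, rev_act]; exact hz,
      by rw [← Scheme.Hom.comp_apply, rev_fst]⟩
  · rintro ⟨z, hz, rfl⟩
    exact ⟨rev D z, by show pr D (rev D z) ∈ A; rw [← Scheme.Hom.comp_apply, rev_fst]; exact hz,
      by rw [← Scheme.Hom.comp_apply, rev_act]⟩

theorem subset_sat (A : Set D.obj.left) : A ⊆ sat D A := by
  intro y hy
  let e : D.obj.left ⟶ pullback (dHom D) p := pullback.lift (𝟙 _) D.obj.hom (Category.id_comp _)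
  have h1 : e ≫ pr D = 𝟙 _ := pullback.lift_fst _ _ _
  have h2 : e ≫ act D = 𝟙 _ := move_self D (𝟙 _) D.obj.hom (Category.id_comp _) (Category.id_comp _)
  exact ⟨e y, by show pr D (e y) ∈ A; rw [← Scheme.Hom.comp_apply, h1]; exact hy,
    by rw [← Scheme.Hom.comp_apply, h2]; rfl⟩

theorem sat_stable (A : Set D.obj.left) (t : ↥(pullback (dHom D) p)) :
    pr D t ∈ sat D A ↔ act D t ∈ sat D A := by
  suffices key : ∀ t, pr D t ∈ sat D A → act D t ∈ sat D A by
    refine ⟨key t, fun h => ?_⟩
    have := key (rev D t) (by rwa [← Scheme.Hom.comp_apply, rev_fst])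
    rwa [← Scheme.Hom.comp_apply, rev_act] at this
  intro t ht
  rw [sat_eq] at ht
  obtain ⟨z, hz, hzt⟩ := ht
  obtain ⟨w, hw₁, hw₂⟩ := Scheme.Pullback.exists_preimage_pullback (f := pr D) (g := pr D) t z hzt.symm
  let a := pullback.fst (pr D) (pr D)
  let b := pullback.snd (pr D) (pr D)
  have hm : ∀ {R : Scheme.{u}} (c : R ⟶ pullback (dHom D) p),
      c ≫ act D = move D (c ≫ pr D) (c ≫ pullback.snd _ _) (by simp only [Category.assoc, pullback.condition]) := fun c => by
    rw [move]
    congr 1
    apply pullback.hom_ext <;> simp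
  have hab : a ≫ pr D = b ≫ pr D := pullback.condition
  have hc : (b ≫ act D) ≫ D.obj.hom ≫ p = (a ≫ pullback.snd (dHom D) p) ≫ p := by
    rw [Category.assoc, Category.assoc, ← Category.assoc (act D), act_hom, ← pullback.condition]
    exact ((reassoc_of% hab) _).symm
  let q : pullback (pr D) (pr D) ⟶ pullback (dHom D) p := pullback.lift (b ≫ act D) (a ≫ pullback.snd _ _) hc
  have hq1 : q ≫ pr D = b ≫ act D := pullback.lift_fst _ _ _
  have hq2 : q ≫ act D = a ≫ act D := by
    show move D (b ≫ act D) (a ≫ pullback.snd _ _) hc = _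
    refine (move_congr₂ (hm b) rfl (h' := ?_)).trans ?_
    · rw [← hm b]; exact hc
    rw [move_move D _ _ _ _ _ (by simp only [Category.assoc, ← pullback.condition]; rw [← reassoc_of% hab])]
    exact (move_congr₂ hab.symm rfl).trans (hm a).symm
  refine ⟨q w, ?_, ?_⟩
  · show pr D (q w) ∈ A
    rw [← Scheme.Hom.comp_apply, hq1, Scheme.Hom.comp_apply, hw₂]
    exact hz
  · rw [← Scheme.Hom.comp_apply, hq2, Scheme.Hom.comp_apply, hw₁]

variable {D}

/-- Open covers give neighbourhoods. -/
theorem quot_top_of_open [UniversallyOpen p] [Surjective p] [QuasiCompact p] [QuasiSeparatedSpace X]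
    [Etale D.obj.hom] [IsSeparated D.obj.hom] : ∃ Q : Quot D ⊤, Etale Q.str := by
  have hp : Subtr.UnivSSubtrusive p := fun X' Y' i₁ i₂ f' sq y y' hy => by
    haveI : UniversallyOpen f' := MorphismProperty.of_isPullback sq.flip ‹UniversallyOpen p›
    haveI : Surjective f' := MorphismProperty.of_isPullback sq.flip ‹Surjective p›
    obtain ⟨x, rfl⟩ := f'.surjective y
    obtain ⟨x', hx', e'⟩ := SchTopo.generalizingMap_of_isOpenMap f' f'.isOpenMap hy
    exact ⟨x, x', hx', rfl, e'⟩
  refine quot_top_of_cover (univSubmersive_of_open p) fun v => ?_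
  obtain ⟨_, ⟨O, hO, rfl⟩, hvO, -⟩ :=
    D.obj.left.isBasis_affineOpens.exists_subset_of_mem_open (Set.mem_univ v) isOpen_univ
  haveI : UniversallyOpen (pr D) := MorphismProperty.pullback_fst _ _ inferInstance
  haveI : QuasiCompact (pr D) := MorphismProperty.pullback_fst _ _ inferInstance
  let W : D.obj.left.Opens := ⟨sat D O, by
    rw [sat_eq]; exact (pr D).isOpenMap _ (O.2.preimage (act D).continuous)⟩
  have hW : Stable D W := fun t ht => (sat_stable D O t).1 ht
  haveI : CompactSpace ↥(W : Scheme.{u}) := isCompact_iff_compactSpace.1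
    (((pr D).isCompact_preimage hO.isCompact).image (act D).continuous)
  haveI : QuasiCompact (W.ι ≫ D.obj.hom) := quasiCompact_of_compactSpace _
  exact ⟨W, subset_sat D O hvO, quot_of_stable_qc hp hW⟩

/-- Closed covers give neighbourhoods. -/
theorem quot_top_of_closed [UniversallyClosed p] [Surjective p] [QuasiCompact p] [LocallyOfFinitePresentation p]
    [QuasiSeparated p] [QuasiSeparatedSpace S] [Etale D.obj.hom] [IsSeparated D.obj.hom] :
    ∃ Q : Quot D ⊤, Etale Q.str := by
  haveI : QuasiSeparatedSpace X := quasiSeparatedSpace_of_quasiSeparated p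
  haveI : QuasiSeparatedSpace D.obj.left := quasiSeparatedSpace_of_quasiSeparated D.obj.hom
  refine quot_top_of_cover (univSubmersive_of_closed p) fun v => ?_
  haveI : UniversallyClosed (pr D) := MorphismProperty.pullback_fst _ _ inferInstance
  haveI : QuasiCompact (pr D) := MorphismProperty.pullback_fst _ _ inferInstance
  haveI : LocallyOfFinitePresentation (pr D) := MorphismProperty.pullback_fst _ _ inferInstance
  haveI : QuasiSeparated (pr D) := MorphismProperty.pullback_fst _ _ inferInstance
  haveI : QuasiSeparatedSpace ↥(pullback (dHom D) p) := quasiSeparatedSpace_of_quasiSeparated (pr D)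
  haveI : QuasiCompact (act D) := by rw [← rev_fst D]; infer_instance
  -- a compact open containing the orbit
  have horb : IsCompact (sat D {v}) := by
    refine IsCompact.image ?_ (act D).continuous
    rw [← Scheme.Hom.range_fiberι]
    exact isCompact_range ((pr D).fiberι v).continuous
  obtain ⟨s, hs⟩ := horb.elim_finite_subcover (fun V : D.obj.left.affineOpens => (V.1 : Set D.obj.left))
    (fun V => V.1.2) (fun x _ => by
      obtain ⟨_, ⟨V, hV, rfl⟩, hxV, -⟩ :=
        D.obj.left.isBasis_affineOpens.exists_subset_of_mem_open (Set.mem_univ x) isOpen_univ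
      exact Set.mem_iUnion.2 ⟨⟨V, hV⟩, hxV⟩)
  let O : D.obj.left.Opens := ⟨⋃ V ∈ s, (V.1 : Set D.obj.left), isOpen_biUnion fun V _ => V.1.2⟩
  have hOc : IsCompact (O : Set D.obj.left) := s.isCompact_biUnion fun V _ => V.2.isCompact
  let W : D.obj.left.Opens := ⟨(sat D (O : Set D.obj.left)ᶜ)ᶜ, by
    rw [sat_eq]; exact ((pr D).isClosedMap _ (O.2.isClosed_compl.preimage (act D).continuous)).isOpen_compl⟩
  have hW : Stable D W := fun t ht h => ht ((sat_stable D _ t).2 h)
  have hvW : v ∈ W := fun h => by
    rw [sat_eq] at h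
    obtain ⟨z, hz, hzv⟩ := h
    exact hz (hs ⟨z, hzv, rfl⟩)
  -- it is quasi-compact
  let P : (pullback (dHom D) p).Opens := pr D ⁻¹ᵁ O
  let f : (P : Scheme.{u}) ⟶ (O : Scheme.{u}) := pr D ∣_ O
  haveI : QuasiCompact f := MorphismProperty.of_isPullback (isPullback_morphismRestrict (pr D) O).flip inferInstance
  haveI : LocallyOfFinitePresentation f :=
    MorphismProperty.of_isPullback (P := @LocallyOfFinitePresentation) (isPullback_morphismRestrict (pr D) O).flip inferInstance
  haveI : CompactSpace ↥(O : Scheme.{u}) := isCompact_iff_compactSpace.1 hOc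
  haveI : QuasiSeparatedSpace ↥(O : Scheme.{u}) := quasiSeparatedSpace_of_quasiSeparated O.ι
  haveI : CompactSpace ↥(P : Scheme.{u}) := QuasiCompact.compactSpace_of_compactSpace f
  haveI : QuasiSeparatedSpace ↥(P : Scheme.{u}) := quasiSeparatedSpace_of_quasiSeparated P.ι
  let R : (P : Scheme.{u}).Opens := P.ι ⁻¹ᵁ (act D ⁻¹ᵁ O)
  have hRc : IsCompact (R : Set ↥(P : Scheme.{u})) := by
    haveI : QuasiCompact P.ι := quasiCompact_of_compactSpace _
    exact P.ι.isCompact_preimage ((act D).isCompact_preimage hOc)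
  have hcon : Topology.IsConstructible (f '' (R : Set ↥(P : Scheme.{u}))ᶜ) :=
    f.isConstructible_image (hRc.isConstructible R.2).compl
  have hset : O.ι '' (f '' (R : Set ↥(P : Scheme.{u}))ᶜ)ᶜ = (W : Set D.obj.left) := by
    ext y
    constructor
    · rintro ⟨o, ho, rfl⟩ h
      rw [sat_eq] at h
      obtain ⟨z, hz, hzo⟩ := h
      have hzP : z ∈ P := by
        show pr D z ∈ O
        rw [hzo]; exact o.2
      refine ho ⟨⟨z, hzP⟩, hz, O.ι.isOpenEmbedding.injective ?_⟩
      rw [← Scheme.Hom.comp_apply, morphismRestrict_ι]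
      exact hzo
    · intro hy
      have hyO : y ∈ O := by
        by_contra h
        exact hy (subset_sat D _ h)
      refine ⟨⟨y, hyO⟩, ?_, rfl⟩
      rintro ⟨z, hz, hzy⟩
      refine hy ?_
      rw [sat_eq]
      refine ⟨P.ι z, hz, ?_⟩
      have := congrArg O.ι hzy
      rw [← Scheme.Hom.comp_apply, morphismRestrict_ι] at this
      exact this
  haveI : CompactSpace ↥(W : Scheme.{u}) := isCompact_iff_compactSpace.1
    (hset ▸ (FLCLib.isCompact_of_isConstructible hcon.compl).image O.ι.continuous)
  haveI : QuasiCompact (W.ι ≫ D.obj.hom) := quasiCompact_of_compactSpace _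
  exact ⟨W, hvW, quot_of_stable_qc (univSSubtrusive_of_closed p) hW⟩

end Groth.Agent.ValEtDescLib
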