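import Groth.Agent.SubmEtSpread.Spread

/-! An étale quotient over a limit of affine schemes over the base spreads out to a stage, without finiteness
conditions on the cover besides being quasi-compact and quasi-separated. -/

set_option autoImplicit false
set_option linter.style.haveILetI false
set_option backward.isDefEq.respectTransparency false
set_option backward.defeqAttrib.useBackward true

universe u
open CategoryTheory CategoryTheory.Limits AlgebraicGeometry

noncomputable section

namespace Groth.Agent.ValEtDescLib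

open Groth.Agent.SchDesc Groth.Agent.SubmEtSpread
open _root_.Desc (SchDD)

/-- A presentation of a scheme over `S` as a limit of affine schemes over `S`. -/
structure AffSys {S P : Scheme.{u}} (f : P ⟶ S) (J : Type u) [SmallCategory J] : Type (u + 1) where
  /-- the stages -/
  sys : J ⥤ Scheme.{u}
  /-- the projections -/
  π : (Functor.const J).obj P ⟶ sys
  /-- the limit property -/
  isLimit : IsLimit (⟨P, π⟩ : Cone sys)
  isAffine : ∀ k, IsAffine (sys.obj k)
  /-- the maps to the base -/
  toBase : sys ⟶ (Functor.const J).obj S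
  π_toBase : ∀ k, π.app k ≫ toBase.app k = f

namespace AffSys

variable {S P : Scheme.{u}} {f : P ⟶ S} {J : Type u} [SmallCategory J] [IsCofiltered J] (σ : AffSys f J)

/-- The cone. -/
abbrev cone : Cone σ.sys := ⟨P, σ.π⟩

instance (k : J) : IsAffine (σ.sys.obj k) := σ.isAffine k
instance {j k : J} (h : j ⟶ k) : IsAffineHom (σ.sys.map h) := isAffineHom_of_isAffine _

theorem w {j k : J} (h : j ⟶ k) : σ.π.app j ≫ σ.sys.map h = σ.π.app k := σ.cone.w h

theorem map_toBase {j k : J} (h : j ⟶ k) : σ.sys.map h ≫ σ.toBase.app k = σ.toBase.app j :=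
  (σ.toBase.naturality h).trans (Category.comp_id _)

variable {B : Scheme.{u}} (b : B ⟶ S)

/-- The base change system. -/
def bsys : J ⥤ Scheme.{u} where
  obj k := pullback b (σ.toBase.app k)
  map {j k} h := pullback.lift (pullback.fst _ _) (pullback.snd _ _ ≫ σ.sys.map h)
    (by rw [Category.assoc, σ.map_toBase, pullback.condition])
  map_id k := by apply pullback.hom_ext <;> simp
  map_comp h h' := by apply pullback.hom_ext <;> simp

/-- The base change cone. -/
def bcone : Cone (σ.bsys b) where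
  pt := pullback b f
  π :=
    { app := fun k => pullback.lift (pullback.fst _ _) (pullback.snd _ _ ≫ σ.π.app k)
        (by rw [Category.assoc, σ.π_toBase, pullback.condition])
      naturality := fun j k h => by apply pullback.hom_ext <;> simp [bsys, σ.w] }

theorem nonempty_isLimit_bcone : Nonempty (IsLimit (σ.bcone b)) := by
  haveI : IsConnected J := IsCofiltered.isConnected _
  let α : σ.bsys b ⟶ σ.sys :=
    { app := fun k => pullback.snd _ _
      naturality := fun j k h => by simp [bsys] }
  refine ⟨isLimitOfIsPullbackOfIsConnected α (σ.bcone b) σ.cone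
    { hom := pullback.snd _ _, w := fun j => by simp [α, bcone] } (fun j => ?_) σ.isLimit⟩
  refine IsPullback.of_bot ?_ (by simp [α, bcone]) (IsPullback.of_hasPullback b (σ.toBase.app j)).flip |>.flip
  simpa [bcone, σ.π_toBase] using (IsPullback.of_hasPullback b f).flip

/-- The base change system over the base. -/
def bsysToBase : σ.bsys b ⟶ (Functor.const _).obj S where
  app k := pullback.fst _ _ ≫ b
  naturality j k h := by simp [bsys]

instance isAffineHom_bsys {j k : J} (h : j ⟶ k) : IsAffineHom ((σ.bsys b).map h) := by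
  have : IsPullback ((σ.bsys b).map h) (pullback.snd _ _) (pullback.snd _ _) (σ.sys.map h) := by
    refine IsPullback.of_right ?_ (pullback.lift_snd _ _ _) (IsPullback.of_hasPullback b _)
    simpa [bsys, σ.map_toBase] using IsPullback.of_hasPullback b (σ.toBase.app j)
  exact MorphismProperty.of_isPullback this.flip inferInstance

instance [QuasiCompact b] (k : J) : CompactSpace ((σ.bsys b).obj k) :=
  QuasiCompact.compactSpace_of_compactSpace (pullback.snd b (σ.toBase.app k))

instance [QuasiSeparated b] (k : J) : QuasiSeparatedSpace ((σ.bsys b).obj k) :=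
  quasiSeparatedSpace_of_quasiSeparated (pullback.snd b (σ.toBase.app k))

end AffSys

variable {X S : Scheme.{u}} {p : X ⟶ S} {D : SchDD p}

theorem squares' {P P' U U' : Scheme.{u}} {f : P ⟶ S} {f' : P' ⟶ S} {str : U ⟶ P}
    {π : pullback (dHom D) f ⟶ U} (hfac : π ≫ str = pullback.snd (dHom D) f) {h : P' ⟶ P} (e : h ≫ f = f')
    {gU : U' ⟶ U} {str' : U' ⟶ P'} (hU : IsPullback gU str' str h) {π' : pullback (dHom D) f' ⟶ U'}
    (hfac' : π' ≫ str' = pullback.snd (dHom D) f') (hc : π' ≫ gU = bcMap (dHom D) e ≫ π) :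
    ∃ qY : pullback (str' ≫ f') p ⟶ pullback (str ≫ f) p, qY ≫ pullback.snd _ _ = pullback.snd _ _ ∧
      IsPullback qY (pullback.fst _ _ ≫ str') (pullback.fst _ _ ≫ str) h ∧
      IsPullback (bcMap (dHom D) e) (sqMap hfac') (sqMap hfac) qY := by
  have e' : gU ≫ str ≫ f = str' ≫ f' := by rw [← e, reassoc_of% hU.w]
  let qY : pullback (str' ≫ f') p ⟶ pullback (str ≫ f) p :=
    pullback.lift (pullback.fst _ _ ≫ gU) (pullback.snd _ _) (by rw [Category.assoc, e', pullback.condition])
  have h1 : IsPullback qY (pullback.fst (str' ≫ f') p) (pullback.fst (str ≫ f) p) gU := by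
    refine (IsPullback.of_bot ?_ (pullback.lift_fst _ _ _).symm (IsPullback.of_hasPullback (str ≫ f) p)).flip
    rw [pullback.lift_snd, e']
    exact IsPullback.of_hasPullback _ _
  have hY := h1.paste_vert hU
  refine ⟨qY, pullback.lift_snd _ _ _, hY, ?_⟩
  refine IsPullback.of_bot ?_ ?_ hY
  · rw [sqMap_fst_str, sqMap_fst_str]
    exact isPullback_bcMap (dHom D) e
  · apply pullback.hom_ext <;> simp [qY, hc]

variable {P : Scheme.{u}} {f : P ⟶ S} {J : Type u} [SmallCategory J] [IsCofiltered J] (σ : AffSys f J)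

/-- An étale model at a stage of a scheme over the local scheme. -/
structure Model {U : Scheme.{u}} (str : U ⟶ P) (k : J) : Type (u + 1) where
  U' : Scheme.{u}
  str' : U' ⟶ σ.sys.obj k
  gU : U ⟶ U'
  isPullback : IsPullback gU str str' (σ.cone.π.app k)
  etale : Etale str'
  qc : QuasiCompact str'
  qs : QuasiSeparated str'

variable {U : Scheme.{u}} {str : U ⟶ P}

/-- Restriction of a model to a smaller neighbourhood. -/
def Model.shift {k l : J} (M : Model σ str k) (h : l ⟶ k) : Model σ str l where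
  U' := pullback M.str' (σ.sys.map h)
  str' := pullback.snd _ _
  gU := pullback.lift M.gU (str ≫ σ.cone.π.app l) (by
    rw [M.isPullback.w, Category.assoc]; exact congrArg (str ≫ ·) (σ.w h).symm)
  isPullback := IsPullback.of_right (by
      rw [pullback.lift_fst, σ.w h]; exact M.isPullback)
    (pullback.lift_snd _ _ _) (IsPullback.of_hasPullback M.str' (σ.sys.map h))
  etale := MorphismProperty.pullback_snd _ _ M.etale
  qc := MorphismProperty.pullback_snd _ _ M.qc
  qs := MorphismProperty.pullback_snd _ _ M.qs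

theorem exists_model [IsAffine P] [Etale str] [CompactSpace U] [QuasiSeparatedSpace U] : ∃ k, Nonempty (Model σ str k) := by
  have hc := σ.isLimit
  haveI : ∀ k, CompactSpace (σ.sys.obj k) := fun k => inferInstance
  haveI : ∀ k, QuasiSeparatedSpace (σ.sys.obj k) := fun k => inferInstance
  haveI : ∀ (i j : J) (f : i ⟶ j), IsAffineHom (σ.sys.map f) := fun i j f => inferInstance
  haveI : QuasiCompact str := quasiCompact_of_compactSpace str
  haveI : QuasiSeparated str := QuasiSeparated.of_quasiSeparatedSpace str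
  obtain ⟨k₀, U₀, f₀, g, hl, hqc, hqs, hpb⟩ := Groth.Agent.S0591.result σ.sys σ.cone hc U str
  haveI : CompactSpace U₀ := QuasiCompact.compactSpace_of_compactSpace f₀
  have hY : IsPullback (σ.cone.π.app k₀) (𝟙 _) (𝟙 (σ.sys.obj k₀)) (σ.cone.π.app k₀) :=
    IsPullback.of_vert_isIso ⟨by simp⟩
  obtain ⟨k, hk⟩ := FlatStage.exists_etale σ.sys σ.cone k₀ f₀ (𝟙 _) hY hpb hc
  haveI := hk
  haveI : Etale (pullback.snd (f₀ ≫ 𝟙 _) (σ.sys.map k.hom)) := by
    haveI : IsIso (pullback.snd (𝟙 (σ.sys.obj k₀)) (σ.sys.map k.hom)) := inferInstance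
    rw [show pullback.snd (f₀ ≫ 𝟙 _) (σ.sys.map k.hom) =
      (AffLim.baseChangeMap σ.sys k₀ f₀ (𝟙 _)).app k ≫ pullback.snd (𝟙 _) (σ.sys.map k.hom) by
        simp [AffLim.baseChangeMap]]
    infer_instance
  refine ⟨k.left, ⟨{ U' := pullback (f₀ ≫ 𝟙 _) (σ.sys.map k.hom)
                     str' := pullback.snd _ _
                     gU := pullback.lift g (str ≫ σ.cone.π.app k.left) (by
                       rw [Category.comp_id, hpb.w, Category.assoc]; exact congrArg (str ≫ ·) (σ.w k.hom).symm)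
                     isPullback := ?_
                     etale := inferInstance
                     qc := MorphismProperty.pullback_snd _ _ (by simpa using hqc)
                     qs := MorphismProperty.pullback_snd _ _ (by simpa using hqs) }⟩⟩
  refine IsPullback.of_right ?_ (pullback.lift_snd _ _ _) (IsPullback.of_hasPullback _ _)
  rw [pullback.lift_fst, σ.w k.hom, Category.comp_id]
  exact hpb

/-- A map extending the quotient map at a stage. -/
theorem exists_stage_map [∀ k, LocallyOfFinitePresentation (σ.toBase.app k)] [QuasiCompact (dHom D)] [QuasiSeparated (dHom D)]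
    {π : pullback (dHom D) f ⟶ U} (hfac : π ≫ str = pullback.snd _ _) {k : J}
    (M : Model σ str k) :
    ∃ (l : J) (N : Model σ str l) (π' : pullback (dHom D) (σ.toBase.app l) ⟶ N.U'),
      π' ≫ N.str' = pullback.snd _ _ ∧ π ≫ N.gU = bcMap (dHom D) (σ.π_toBase l) ≫ π' := by
  obtain ⟨hc⟩ := σ.nonempty_isLimit_bcone (dHom D)
  haveI := M.etale
  let fU : M.U' ⟶ S := M.str' ≫ σ.toBase.app k
  haveI : LocallyOfFinitePresentation fU := inferInstance
  obtain ⟨i, m, hm, hm'⟩ := Scheme.exists_π_app_comp_eq_of_locallyOfFinitePresentation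
    (σ.bsys (dHom D)) (σ.bsysToBase (dHom D)) fU (σ.bcone (dHom D)) hc (π ≫ M.gU) (by
      ext j
      show pullback.lift (pullback.fst _ _) (pullback.snd _ _ ≫ σ.cone.π.app j) _ ≫ pullback.fst _ _ ≫ dHom D = (π ≫ M.gU) ≫ fU
      simp only [fU, Category.assoc, reassoc_of% M.isPullback.w, reassoc_of% hfac, σ.π_toBase]
      rw [pullback.lift_fst_assoc, pullback.condition])
  let i₁ := IsCofiltered.min i k
  let u₁ := IsCofiltered.minToLeft i k
  let v₁ := IsCofiltered.minToRight i k
  have hm2 : m ≫ M.str' ≫ σ.toBase.app k = pullback.fst (dHom D) (σ.toBase.app i) ≫ dHom D := hm'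
  obtain ⟨l, w, hw⟩ := Scheme.exists_hom_comp_eq_comp_of_locallyOfFiniteType
    (σ.bsys (dHom D)) (σ.bsysToBase (dHom D)) (σ.toBase.app k) (σ.bcone (dHom D)) hc (i := i₁)
    ((σ.bsys (dHom D)).map u₁ ≫ m ≫ M.str') (pullback.snd (dHom D) (σ.toBase.app i₁) ≫ σ.sys.map v₁)
    (by simp only [Category.assoc, hm2]; simp [AffSys.bsysToBase, AffSys.bsys])
    (by simp only [Category.assoc, σ.map_toBase]; simp only [AffSys.bsysToBase]; exact pullback.condition)
    (by
      rw [← Category.assoc, (σ.bcone (dHom D)).w u₁, reassoc_of% hm, M.isPullback.w, reassoc_of% hfac]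
      simp only [AffSys.bcone, pullback.lift_snd_assoc, Category.assoc]
      erw [σ.w v₁])
  let u := w ≫ u₁
  let v := w ≫ v₁
  let N := M.shift σ v
  let m' := (σ.bsys (dHom D)).map u ≫ m
  have e1 : m' ≫ M.str' = pullback.snd (dHom D) (σ.toBase.app l) ≫ σ.sys.map v := by
    simp only [m', u, v, Functor.map_comp, Category.assoc, hw]
    simp only [AffSys.bsys, pullback.lift_snd_assoc, Category.assoc]
  let π' : pullback (dHom D) (σ.toBase.app l) ⟶ pullback M.str' (σ.sys.map v) := pullback.lift m' (pullback.snd _ _) e1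
  refine ⟨l, N, π', pullback.lift_snd _ _ _, ?_⟩
  show π ≫ pullback.lift M.gU (str ≫ σ.cone.π.app l) _ = (σ.bcone (dHom D)).π.app l ≫ π'
  apply pullback.hom_ext
  · simp only [π', m', Category.assoc, pullback.lift_fst]
    rw [(σ.bcone (dHom D)).w_assoc u, hm]
  · simp only [π', Category.assoc, pullback.lift_snd, reassoc_of% hfac]
    exact (pullback.lift_snd _ _ _).symm

/-- Restriction of a stage map. -/
theorem stage_shift {π : pullback (dHom D) f ⟶ U} (hfac : π ≫ str = pullback.snd _ _)
    {k l : J} (h : l ⟶ k) (M : Model σ str k)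
    (π₁ : pullback (dHom D) (σ.toBase.app k) ⟶ M.U') (h1 : π₁ ≫ M.str' = pullback.snd _ _)
    (h2 : π ≫ M.gU = bcMap (dHom D) (σ.π_toBase k) ≫ π₁) :
    ∃ π' : pullback (dHom D) (σ.toBase.app l) ⟶ (M.shift σ h).U',
      π' ≫ (M.shift σ h).str' = pullback.snd _ _ ∧
      π ≫ (M.shift σ h).gU = bcMap (dHom D) (σ.π_toBase l) ≫ π' ∧
      π' ≫ pullback.fst M.str' (σ.sys.map h) = bcMap (dHom D) (σ.map_toBase h) ≫ π₁ := by
  let π' : pullback (dHom D) (σ.toBase.app l) ⟶ pullback M.str' (σ.sys.map h) :=
    pullback.lift (bcMap (dHom D) (σ.map_toBase h) ≫ π₁) (pullback.snd _ _)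
      (by rw [Category.assoc, h1, pullback.lift_snd])
  refine ⟨π', pullback.lift_snd _ _ _, ?_, pullback.lift_fst _ _ _⟩
  show π ≫ pullback.lift M.gU (str ≫ σ.cone.π.app l) _ = bcMap (dHom D) (σ.π_toBase l) ≫ π'
  refine pullback.hom_ext ?_ ?_
  · refine (Category.assoc _ _ _).trans ((congrArg (π ≫ ·) (pullback.lift_fst _ _ _)).trans (h2.trans ?_))
    refine Eq.trans ?_ ((Category.assoc _ _ _).trans (congrArg (_ ≫ ·) (pullback.lift_fst _ _ _))).symm
    refine Eq.trans ?_ (Category.assoc _ _ _)
    refine congrArg (· ≫ π₁) (pullback.hom_ext ?_ ?_)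
    · simp
    · simp only [Category.assoc, pullback.lift_snd, pullback.lift_snd_assoc]
      exact congrArg (_ ≫ ·) (σ.w h).symm
  · refine (Category.assoc _ _ _).trans ((congrArg (π ≫ ·) (pullback.lift_snd _ _ _)).trans
      (((Category.assoc _ _ _).symm.trans (congrArg (· ≫ _) hfac)).trans ?_))
    refine Eq.trans ?_ ((Category.assoc _ _ _).trans (congrArg (_ ≫ ·) (pullback.lift_snd _ _ _))).symm
    exact (pullback.lift_snd _ _ _).symm

/-- Spreading of an étale quotient. -/
theorem exists_stage_quot [IsAffine P] [∀ k, LocallyOfFinitePresentation (σ.toBase.app k)] [QuasiCompact p] [QuasiSeparated p] [Surjective p]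
    [LocallyOfFinitePresentation D.obj.hom] [QuasiCompact D.obj.hom] [QuasiSeparated D.obj.hom]
    [Etale str] {π : pullback (dHom D) f ⟶ U} (hQ : IsQuot D f str π) :
    ∃ (k : J) (V : Scheme.{u}) (t : V ⟶ σ.sys.obj k) (π' : pullback (dHom D) (σ.toBase.app k) ⟶ V),
      Etale t ∧ IsQuot D (σ.toBase.app k) t π' := by
  haveI : Surjective π := MorphismProperty.of_isPullback (P := @Surjective) hQ.isPullback.flip inferInstance
  haveI : QuasiCompact π := MorphismProperty.of_isPullback (P := @QuasiCompact) hQ.isPullback.flip inferInstance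
  haveI : CompactSpace ↥(pullback (dHom D) f) :=
    QuasiCompact.compactSpace_of_compactSpace (pullback.snd (dHom D) f)
  haveI : QuasiSeparatedSpace ↥(pullback (dHom D) f) :=
    quasiSeparatedSpace_of_quasiSeparated (pullback.snd (dHom D) f)
  haveI : CompactSpace U := ⟨by rw [← π.surjective.range_eq]; exact isCompact_range π.continuous⟩
  haveI : QuasiSeparatedSpace U := ⟨fun A B hA hAc hB hBc => by
    rw [← Set.image_preimage_eq (A ∩ B) π.surjective, Set.preimage_inter]
    exact (QuasiSeparatedSpace.inter_isCompact _ _ (hA.preimage π.continuous) (π.isCompact_preimage (U := ⟨A, hA⟩) hAc)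
      (hB.preimage π.continuous) (π.isCompact_preimage (U := ⟨B, hB⟩) hBc)).image π.continuous⟩
  obtain ⟨k₀, ⟨M₀⟩⟩ := exists_model σ (str := str)
  obtain ⟨k₁, M₁, π₁, h11, h12⟩ := exists_stage_map σ hQ.fac M₀
  -- invariance at a stage
  obtain ⟨hcp⟩ := σ.nonempty_isLimit_bcone (pairHom D)
  haveI := M₁.etale
  let f₁ : M₁.U' ⟶ S := M₁.str' ≫ σ.toBase.app k₁
  obtain ⟨k₂, u, hu⟩ := Scheme.exists_hom_comp_eq_comp_of_locallyOfFiniteType
    (σ.bsys (pairHom D)) (σ.bsysToBase (pairHom D)) f₁ (σ.bcone (pairHom D)) hcp (i := k₁)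
    (bcHom (pullback.fst (dHom D) p) rfl (σ.toBase.app k₁) ≫ π₁)
    (bcHom (act D) (act_dHom D) (σ.toBase.app k₁) ≫ π₁)
    (by simp only [f₁, Category.assoc, reassoc_of% h11, pullback.lift_snd_assoc]; exact pullback.condition)
    (by simp only [f₁, Category.assoc, reassoc_of% h11, pullback.lift_snd_assoc]; exact pullback.condition)
    (by
      exact ((bcHom_bcMap' _ rfl (σ.π_toBase k₁) π₁).symm.trans
        ((congrArg (_ ≫ ·) h12.symm).trans (((Category.assoc _ _ _).symm.trans
          (congrArg (· ≫ M₁.gU) hQ.inv)).trans ((Category.assoc _ _ _).trans (congrArg (_ ≫ ·) h12))))).trans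
        (bcHom_bcMap' (act D) (act_dHom D) (σ.π_toBase k₁) π₁))
  obtain ⟨π₂, h21, h22, h23⟩ := stage_shift σ hQ.fac u M₁ π₁ h11 h12
  let M₂ := M₁.shift σ u
  have hinv2 : bcHom (pullback.fst (dHom D) p) rfl (σ.toBase.app k₂) ≫ π₂ = bcHom (act D) (act_dHom D) (σ.toBase.app k₂) ≫ π₂ := by
    refine pullback.hom_ext (f := M₁.str') (g := σ.sys.map u) ?_ ?_
    · refine ((Category.assoc _ _ _).trans (congrArg (_ ≫ ·) h23)).trans (Eq.trans ?_
        ((Category.assoc _ _ _).trans (congrArg (_ ≫ ·) h23)).symm)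
      exact (bcHom_bcMap' _ rfl (σ.map_toBase u) π₁).trans
        (hu.trans (bcHom_bcMap' (act D) (act_dHom D) (σ.map_toBase u) π₁).symm)
    · refine (Category.assoc _ _ _).trans (Eq.trans ?_ (Category.assoc _ _ _).symm)
      erw [h21]
      simp
  -- the square at a stage
  haveI := M₂.etale
  haveI := M₂.qc
  haveI := M₂.qs
  obtain ⟨qY, hqYsnd, hY, hX⟩ := squares' h21 (σ.π_toBase k₂) M₂.isPullback hQ.fac h22
  haveI := isIso_sqMap hQ
  let g₀ : pullback (M₂.str' ≫ σ.toBase.app k₂) p ⟶ (σ.bsys p).obj k₂ :=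
    pullback.lift (pullback.snd _ _) (pullback.fst _ _ ≫ M₂.str') (by rw [Category.assoc, pullback.condition])
  have hg₀ : IsPullback (pullback.fst _ _) g₀ M₂.str' (pullback.snd p (σ.toBase.app k₂)) := by
    refine (IsPullback.of_right ?_ (pullback.lift_snd _ _ _) (IsPullback.of_hasPullback p _)).flip
    rw [pullback.lift_fst]
    exact (IsPullback.of_hasPullback _ _).flip
  haveI : LocallyOfFiniteType g₀ := MorphismProperty.of_isPullback (P := @LocallyOfFiniteType) hg₀ inferInstance
  haveI : QuasiCompact g₀ := MorphismProperty.of_isPullback (P := @QuasiCompact) hg₀ inferInstance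
  haveI : QuasiSeparated g₀ := MorphismProperty.of_isPullback (P := @QuasiSeparated) hg₀ inferInstance
  have hsq : sqMap h21 ≫ g₀ = ofBC D (σ.toBase.app k₂) ≫ pullback.snd _ _ := by
    refine pullback.hom_ext ?_ ?_
    · simp only [g₀, Category.assoc, pullback.lift_fst]
      exact (pullback.lift_snd _ _ _).trans (ofBC_snd_fst D _).symm
    · simp only [g₀, Category.assoc, pullback.lift_snd]
      exact sqMap_fst_str h21
  haveI : LocallyOfFinitePresentation (sqMap h21 ≫ g₀) := by
    rw [hsq]; infer_instance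
  haveI : QuasiCompact (sqMap h21 ≫ g₀) := by
    rw [hsq]; infer_instance
  haveI : QuasiSeparated (sqMap h21 ≫ g₀) := by
    rw [hsq]; infer_instance
  let g : pullback (str ≫ f) p ⟶ pullback p f :=
    pullback.lift (pullback.snd _ _) (pullback.fst _ _ ≫ str) (by rw [Category.assoc, pullback.condition])
  have hY' : IsPullback qY g g₀ ((σ.bcone p).π.app k₂) := by
    refine IsPullback.of_bot ?_ ?_ (isPullback_bcMap p (σ.π_toBase k₂))
    · rw [pullback.lift_snd, pullback.lift_snd]
      exact hY
    · refine pullback.hom_ext ?_ ?_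
      · simp [g, g₀, AffSys.bcone]; exact hqYsnd
      · simpa [g, g₀, AffSys.bcone] using hY.w
  obtain ⟨hcX⟩ := σ.nonempty_isLimit_bcone p
  haveI : ∀ (i j : J) (h : i ⟶ j), IsAffineHom ((σ.bsys p).map h) := fun i j h => inferInstance
  obtain ⟨k₃, φ, Xj, Yj, fj, gj, pY, pX, hYj, hXj, hiso⟩ := Groth.Agent.S4805.result (σ.bsys p) (σ.bcone p)
    hcX k₂ (sqMap h21) g₀ (sqMap hQ.fac) g qY (bcMap (dHom D) (σ.π_toBase k₂)) hY' hX
  obtain ⟨π₃, h31, h32, h33⟩ := stage_shift σ hQ.fac φ M₂ π₂ h21 h22
  let M₃ := M₂.shift σ φ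
  refine ⟨k₃, M₃.U', M₃.str', π₃, M₃.etale, h31, ?_, ?_⟩
  · refine pullback.hom_ext (f := M₂.str') (g := σ.sys.map φ) ?_ ?_
    · refine ((Category.assoc _ _ _).trans (congrArg (_ ≫ ·) h33)).trans (Eq.trans ?_
        ((Category.assoc _ _ _).trans (congrArg (_ ≫ ·) h33)).symm)
      exact (bcHom_bcMap' _ rfl (σ.map_toBase φ) π₂).trans
        ((congrArg (_ ≫ ·) hinv2).trans (bcHom_bcMap' (act D) (act_dHom D) (σ.map_toBase φ) π₂).symm)
    · refine (Category.assoc _ _ _).trans (Eq.trans ?_ (Category.assoc _ _ _).symm)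
      erw [h31]
      simp
  · obtain ⟨qY', hqYsnd', hY'', hX'⟩ := squares' h21 (σ.map_toBase φ)
      (IsPullback.of_hasPullback M₂.str' (σ.sys.map φ)) h31 h33
    let g₃ : pullback (M₃.str' ≫ σ.toBase.app k₃) p ⟶ (σ.bsys p).obj k₃ :=
      pullback.lift (pullback.snd _ _) (pullback.fst _ _ ≫ M₃.str') (by rw [Category.assoc, pullback.condition])
    have hY3 : IsPullback qY' g₃ g₀ ((σ.bsys p).map φ) := by
      refine IsPullback.of_bot ?_ ?_ (isPullback_bcMap p (σ.map_toBase φ))
      · rw [pullback.lift_snd, pullback.lift_snd]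
        exact hY''
      · refine pullback.hom_ext ?_ ?_
        · simp [g₃, g₀, AffSys.bsys]; exact hqYsnd'
        · simp only [g₃, g₀, AffSys.bsys, Category.assoc, pullback.lift_snd, pullback.lift_snd_assoc]
          exact hY''.w.trans (Category.assoc _ _ _)
    haveI : IsIso (sqMap h31) :=
      (AffLim.prop_iff_of_isPullback (MorphismProperty.isomorphisms Scheme.{u}) hX' hXj
        (hY3.isoIsPullback _ _ hYj) (hY3.isoIsPullback_hom_fst _ _ hYj)).2 hiso
    exact isPullback_of_isIso_sqMap h31

end Groth.Agent.ValEtDescLib
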