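import Groth.Agent.ValEtDescLib.Main

/-! Stable opens of a descent datum and quasi-compact pieces. -/

set_option autoImplicit false
set_option linter.style.haveILetI false
set_option backward.isDefEq.respectTransparency false
set_option backward.isDefEq.respectTransparency.types false

universe u
open CategoryTheory CategoryTheory.Limits AlgebraicGeometry

noncomputable section

namespace Groth.Agent.ValEtDescLib

open Groth.Agent.SchDesc Groth.Agent.SubmEtSpread Groth.Agent.QFinEtDesc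
open _root_.Desc (SchDD SchDDFam)

variable {X S : Scheme.{u}} {p : X ⟶ S} (D : SchDD p)

theorem sub_cond {W : D.obj.left.Opens} {T : Scheme.{u}} {x₀ x₁ : T ⟶ X} (h : x₀ ≫ p = x₁ ≫ p)
    (v : _root_.Desc.Lifts (Over.mk (W.ι ≫ D.obj.hom)) x₀) : (v.1 ≫ W.ι) ≫ D.obj.hom ≫ p = x₁ ≫ p := by
  rw [← Category.assoc, Category.assoc v.1, show v.1 ≫ W.ι ≫ D.obj.hom = x₀ from v.2, h]

/-- The translation on a stable open. -/
def subTr {W : D.obj.left.Opens} (hW : Stable D W) {T : Scheme.{u}} (x₀ x₁ : T ⟶ X) (h : x₀ ≫ p = x₁ ≫ p)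
    (v : _root_.Desc.Lifts (Over.mk (W.ι ≫ D.obj.hom)) x₀) :
    _root_.Desc.Lifts (Over.mk (W.ι ≫ D.obj.hom)) x₁ :=
  ⟨(hW.exists_lift v.1 x₁ (sub_cond D h v)).choose, by
    show _ ≫ W.ι ≫ D.obj.hom = x₁
    rw [reassoc_of% (hW.exists_lift v.1 x₁ (sub_cond D h v)).choose_spec, move_hom]⟩

theorem subTr_spec {W : D.obj.left.Opens} (hW : Stable D W) {T : Scheme.{u}} (x₀ x₁ : T ⟶ X)
    (h : x₀ ≫ p = x₁ ≫ p) (v : _root_.Desc.Lifts (Over.mk (W.ι ≫ D.obj.hom)) x₀) :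
    (subTr D hW x₀ x₁ h v).1 ≫ W.ι = move D (v.1 ≫ W.ι) x₁ (sub_cond D h v) :=
  (hW.exists_lift v.1 x₁ (sub_cond D h v)).choose_spec

theorem subTr_self {W : D.obj.left.Opens} (hW : Stable D W) {T : Scheme.{u}} (x₀ : T ⟶ X)
    (v : _root_.Desc.Lifts (Over.mk (W.ι ≫ D.obj.hom)) x₀) : subTr D hW x₀ x₀ rfl v = v := by
  refine Subtype.ext ((cancel_mono W.ι).1 ?_)
  rw [subTr_spec, move_self D _ _ _ (by rw [Category.assoc]; exact v.2)]

theorem subTr_comp {W : D.obj.left.Opens} (hW : Stable D W) {T : Scheme.{u}} (x₀ x₁ x₂ : T ⟶ X)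
    (h₀₁ : x₀ ≫ p = x₁ ≫ p) (h₁₂ : x₁ ≫ p = x₂ ≫ p) (v : _root_.Desc.Lifts (Over.mk (W.ι ≫ D.obj.hom)) x₀) :
    subTr D hW x₁ x₂ h₁₂ (subTr D hW x₀ x₁ h₀₁ v) = subTr D hW x₀ x₂ (h₀₁.trans h₁₂) v := by
  refine Subtype.ext ((cancel_mono W.ι).1 ?_)
  have h' : move D (v.1 ≫ W.ι) x₁ (sub_cond D h₀₁ v) ≫ D.obj.hom ≫ p = x₂ ≫ p := by
    rw [← Category.assoc (move D _ _ _), move_hom, h₁₂]
  exact (subTr_spec D hW x₁ x₂ h₁₂ _).trans (((move_congr₂ (subTr_spec D hW x₀ x₁ h₀₁ v) rfl (h' := h')).trans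
    (move_move D _ _ _ _ _ (sub_cond D (h₀₁.trans h₁₂) v))).trans (subTr_spec D hW x₀ x₂ _ v).symm)

/-- The datum on a stable open. -/
def subDD {W : D.obj.left.Opens} (hW : Stable D W) : SchDD p where
  obj := Over.mk (W.ι ≫ D.obj.hom)
  φ T x₀ x₁ h :=
    { toFun := subTr D hW x₀ x₁ h
      invFun := subTr D hW x₁ x₀ h.symm
      left_inv := fun v => (subTr_comp D hW x₀ x₁ x₀ h h.symm v).trans (subTr_self D hW x₀ v)
      right_inv := fun v => (subTr_comp D hW x₁ x₀ x₁ h.symm h v).trans (subTr_self D hW x₁ v) }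
  φ_natural T T' g x₀ x₁ h h' v v' hv' := by
    refine (cancel_mono W.ι).1 ?_
    refine (subTr_spec D hW (g ≫ x₀) (g ≫ x₁) h' v').trans ?_
    refine Eq.trans ?_ ((Category.assoc _ _ _).trans (congrArg (g ≫ ·) (subTr_spec D hW x₀ x₁ h v))).symm
    refine Eq.trans ?_ (move_comp D g _ _ (sub_cond D h v)).symm
    exact move_congr₂ (by rw [hv', Category.assoc]) rfl
  φ_self T x v := subTr_self D hW x v
  φ_comp T x₀ x₁ x₂ h₀₁ h₁₂ v := subTr_comp D hW x₀ x₁ x₂ h₀₁ h₁₂ v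

variable {D}

theorem move_subDD {W : D.obj.left.Opens} (hW : Stable D W) {T : Scheme.{u}} (v : T ⟶ (W : Scheme.{u})) (x : T ⟶ X)
    (h : v ≫ (W.ι ≫ D.obj.hom) ≫ p = x ≫ p) :
    move (subDD D hW) v x h ≫ W.ι = move D (v ≫ W.ι) x (by simpa only [Category.assoc] using h) := by
  have hx : (v ≫ W.ι ≫ D.obj.hom) ≫ p = x ≫ p := by simpa only [Category.assoc] using h
  exact (congrArg (· ≫ W.ι) (φ_eq_move (subDD D hW) (v ≫ W.ι ≫ D.obj.hom) x hx ⟨v, rfl⟩).symm).trans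
    (subTr_spec D hW _ _ hx ⟨v, rfl⟩)

/-- A stable open quasi-compact over the source has a quotient. -/
theorem quot_of_stable_qc [QuasiCompact p] (hp : Subtr.UnivSSubtrusive p) [Etale D.obj.hom] [IsSeparated D.obj.hom]
    {W : D.obj.left.Opens} (hW : Stable D W) [QuasiCompact (W.ι ≫ D.obj.hom)] :
    ∃ Q : Quot D W, Etale Q.str := by
  let E := subDD D hW
  haveI : QuasiCompact E.obj.hom := ‹QuasiCompact (W.ι ≫ D.obj.hom)›
  haveI : IsSeparated E.obj.hom := inferInstanceAs (IsSeparated (W.ι ≫ D.obj.hom))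
  haveI : Etale E.obj.hom := inferInstanceAs (Etale (W.ι ≫ D.obj.hom))
  obtain ⟨U, -, -, het, ⟨e⟩⟩ := effective_of_univSSubtrusive p hp E
  haveI := het
  obtain ⟨Q, hQ⟩ := quot_top_of_effective E e
  let ti : (W : Scheme.{u}) ⟶ ((⊤ : E.obj.left.Opens) : Scheme.{u}) := (Scheme.topIso E.obj.left).inv
  have hti : ti ≫ (⊤ : E.obj.left.Opens).ι = 𝟙 (W : Scheme.{u}) := by
    show (Scheme.topIso E.obj.left).inv ≫ _ = _
    rw [← Scheme.topIso_hom, Iso.inv_hom_id]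
    rfl
  refine ⟨⟨Q.U, Q.str, ti ≫ Q.π, ?_, hW, fun t t' x hx he => ?_⟩, hQ⟩
  · refine Q.isPullback.of_iso (Scheme.topIso E.obj.left) (.refl _) (.refl _) (.refl _) ?_ ?_ (by simp) (by simp)
    · simp only [Iso.refl_hom, Category.comp_id, ← Scheme.topIso_hom]
      rfl
    · simp only [Iso.refl_hom, Category.comp_id]
      show Q.π = _ ≫ (Scheme.topIso E.obj.left).inv ≫ Q.π
      rw [Iso.hom_inv_id_assoc]
  · have hx' : t ≫ (W.ι ≫ D.obj.hom) ≫ p = x ≫ p := by simpa only [Category.assoc] using hx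
    have h1 : (t ≫ ti) ≫ (⊤ : E.obj.left.Opens).ι = t := by rw [Category.assoc, hti]; exact Category.comp_id t
    have h2 : (t' ≫ ti) ≫ (⊤ : E.obj.left.Opens).ι = t' := by rw [Category.assoc, hti]; exact Category.comp_id t'
    have := Q.inv (t ≫ ti) (t' ≫ ti) x (by rw [h1]; exact hx')
      (((move_congr₂ h1 rfl (h' := hx')).trans ((cancel_mono W.ι).1 ((move_subDD hW t x hx').trans he))).trans h2.symm)
    simpa only [Category.assoc] using this

end Groth.Agent.ValEtDescLib
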